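import Cfsg.Agent.Lib.Char.FeitDegree.Index.Core
import Cfsg.Agent.Lib.CharDeep.Clifford

/-!
# Restriction to a normal subgroup with a noncentral `p`-element

When the degree is at most `p - 2` and the normal `p`-subgroups are central, a faithful
irreducible character stays irreducible on every normal subgroup with a noncentral `p`-element.
-/

set_option autoImplicit false

open scoped Classical ComplexConjugate

namespace CfsgLib.Char.SmallLinear

open Cfsg CfsgLib CfsgLib.Blocks CfsgLib.Blocks.DefectOne CfsgLib.Char.FeitDegree.Index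

universe u

variable {G : Type u} [Group G] [Fintype G] {p : ℕ} [hp : Fact p.Prime]

theorem irr_restrict (χ : IrrCharacter G) (hfaith : ∀ g : G, (χ : G → ℂ) g = (χ : G → ℂ) 1 → g = 1)
    (hd : charDegree (χ : G → ℂ) + 2 ≤ p)
    (hcore : ∀ M : Subgroup G, M.Normal → IsPGroup p M → M ≤ Subgroup.center G)
    (N : Subgroup G) [N.Normal] {v : G} (hv : IsPGroup p (Subgroup.zpowers v)) (hvN : v ∈ N)
    (hvZ : v ∉ Subgroup.center G) : IsIrrCharacter N fun x : N => (χ : G → ℂ) x := by
  have hres := IsCharacter.restrict (isCharacter_irr χ) N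
  have hfN := fun (g : N) e => CharDeep.SmallFaithful.faithful_restrict hfaith N g e
  obtain ⟨m, hm, hexp⟩ := IsCharacter.exists_multiplicity hres
  obtain ⟨θ, h0, hb⟩ : ∃ θ, m θ ≠ 0 ∧ p ≤ 2 * charDegree (θ : N → ℂ) + 1 := by
    by_contra hc
    push Not at hc
    obtain ⟨Q⟩ : Nonempty (Sylow p N) := inferInstance
    have hQn := normal_of_all_small hfN hexp hc Q
    haveI := Sylow.characteristic_of_normal _ hQn
    have hMn : ((Q : Subgroup N).map N.subtype).Normal := ConjAct.normal_of_characteristic_of_normal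
    refine hvZ (hcore _ hMn (Q.2.map _) ?_)
    have hv' : IsPGroup p (Subgroup.zpowers (⟨v, hvN⟩ : N)) := by
      obtain ⟨k, hk⟩ := IsPGroup.iff_card.1 hv
      exact IsPGroup.of_card (n := k) (by rw [Nat.card_zpowers, Subgroup.orderOf_mk, ← Nat.card_zpowers, hk])
    obtain ⟨R, hR⟩ := hv'.exists_le_sylow
    haveI : Unique (Sylow p N) := Sylow.unique_of_normal Q hQn
    exact ⟨⟨v, hvN⟩, Subsingleton.elim R Q ▸ hR (Subgroup.mem_zpowers _), rfl⟩
  obtain ⟨hm1, huniq⟩ := big_unique hres hexp (p := p) hd h0 hb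
  have hθ0 : classInner (fun c : N => (χ : G → ℂ) c) (θ : N → ℂ) ≠ 0 := by rw [hm]; exact_mod_cast h0
  have hinv : ∀ (g : G) (c : N), (θ : N → ℂ) ⟨g * c * g⁻¹, ‹N.Normal›.conj_mem (c : G) c.2 g⟩ = (θ : N → ℂ) c := by
    intro g c
    set θ' : IrrCharacter N := ⟨CharDeep.Clifford.conjFun N g θ, CharDeep.Clifford.isIrrCharacter_conjFun N g θ.2⟩
    have h1 : θ' = θ := by
      by_contra hne
      have h0' : m θ' ≠ 0 := by
        intro h
        refine hθ0 ?_
        rw [← CharDeep.Clifford.classInner_restrict_conjFun N g (IsIrrCharacter.isClassFunction χ.2) (θ : N → ℂ)]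
        rw [show CharDeep.Clifford.conjFun N g (θ : N → ℂ) = (θ' : N → ℂ) from rfl, hm, h, Nat.cast_zero]
      have := huniq θ' hne h0'
      have hd : charDegree (θ' : N → ℂ) = charDegree (θ : N → ℂ) := by
        show charDegree (CharDeep.Clifford.conjFun N g θ) = _
        simp only [charDegree, CharDeep.Clifford.conjFun, Function.comp_apply, map_one]
      omega
    have h2 := congrFun (congrArg Subtype.val h1) c
    rwa [show (θ' : N → ℂ) c = CharDeep.Clifford.conjFun N g θ c from rfl, CharDeep.Clifford.conjFun_apply] at h2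
  obtain ⟨e, he0, hee, hval⟩ := CharDeep.Clifford.restrict_eq_smul N χ.2 θ.2 hθ0 hinv
  have he1 : e = 1 := by
    have h : classInner (fun c : N => (χ : G → ℂ) c) (θ : N → ℂ) = (e : ℂ) := by
      rw [hval, classInner_smul_left, classInner_irr_self θ.2, mul_one]
    rw [hm, hm1, Nat.cast_one] at h
    exact_mod_cast h.symm
  rw [he1, Nat.cast_one, one_smul] at hval
  rw [hval]
  exact θ.2

/-- The same for the normal closure of an element with a noncentral `p`-element among its powers. -/
theorem irr_normalClosure (χ : IrrCharacter G) (hfaith : ∀ g : G, (χ : G → ℂ) g = (χ : G → ℂ) 1 → g = 1)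
    (hd : charDegree (χ : G → ℂ) + 2 ≤ p)
    (hcore : ∀ M : Subgroup G, M.Normal → IsPGroup p M → M ≤ Subgroup.center G)
    {v : G} {i : ℕ} (hv : IsPGroup p (Subgroup.zpowers (v ^ i))) (hvZ : v ^ i ∉ Subgroup.center G) :
    IsIrrCharacter (Subgroup.normalClosure ({v} : Set G))
      fun x : Subgroup.normalClosure ({v} : Set G) => (χ : G → ℂ) x :=
  irr_restrict χ hfaith hd hcore (Subgroup.normalClosure ({v} : Set G)) (v := v ^ i) hv
    (Subgroup.pow_mem _ (Subgroup.subset_normalClosure (Set.mem_singleton v)) i) hvZ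

end CfsgLib.Char.SmallLinear
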