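import Cfsg.Agent.Lib.Char.FeitDegree.Index.Exact
import Cfsg.Agent.Lib.DegreeTools.Rationality

/-!
# Galois conjugates of a character of degree `p - e` agree on the `p`-regular elements
-/

set_option autoImplicit false

open scoped Classical ComplexConjugate

namespace CfsgLib.Char.SmallLinear

open Cfsg CfsgLib CfsgLib.Blocks CfsgLib.Blocks.DefectOne CfsgLib.CharDeep.ExactP
open CfsgLib.Char.DegHalf (Over)
open FeitDegree.Setup
open CfsgLib.DegreeTools.Rationality

universe u

variable {G : Type u} [Group G] [Fintype G] {p : ℕ} [hp : Fact p.Prime] {P : Sylow p G} {D : Frame P}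
  {ζ : IrrCharacter G} {θ : IrrCharacter D.K0} {c : (ZMod p)ˣ}

theorem sum_sec_erase (M : Minus D ζ θ c) :
    ∑ a ∈ Finset.univ.erase (0 : ZMod p), (ζ : G → ℂ) (D.x ^ a.val) = (Nat.card D.act.range : ℂ) := by
  have h1 := sum_xpow D ζ
  have h2 : nP D ζ 0 = mult D θ ζ 0 := by
    rw [nP, Finset.sum_eq_single θ (fun θ' _ h => by rw [M.mult_ne θ' h, mul_zero])
      (fun h => absurd (Finset.mem_univ _) h), M.theta_one, one_mul]
  rw [h2, M.mult_eq, if_neg (zero_notMem_cos D c), Nat.cast_one, mul_one,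
    ← Finset.add_sum_erase _ _ (Finset.mem_univ (0 : ZMod p)), ZMod.val_zero, pow_zero, irr_one_eq] at h1
  have h3 : (charDegree (ζ : G → ℂ) : ℂ) + (Nat.card D.act.range : ℂ) = p := by exact_mod_cast M.deg
  linear_combination h1 - h3

/-- An automorphism fixing the central character fixes the values on `p`-regular elements. -/
theorem galois_fixed (M : Minus D ζ θ c) (he : 2 ≤ Nat.card D.act.range) (hep : Nat.card D.act.range + 2 ≤ p)
    (σ : ℂ ≃+* ℂ) (hσ : ∀ v : D.K0, σ ((θ : D.K0 → ℂ) v) = (θ : D.K0 → ℂ) v) {g : G} (hg : ¬ p ∣ orderOf g) :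
    σ ((ζ : G → ℂ) g) = (ζ : G → ℂ) g := by
  obtain ⟨M₀, hM⟩ := exists_isPModular hp.out
  obtain ⟨B, hB⟩ := D.exists_induced hM θ
  obtain ⟨S⟩ := exists_shape D hM hB
  set ψ := galIrr σ ζ
  have hov : Over θ (ψ : G → ℂ) := fun g v => by
    rw [galIrr_apply, galIrr_apply, M.ov, map_mul, hσ]
  have hsum : ∀ φ : IrrCharacter G, Over θ (φ : G → ℂ) →
      ∑ a ∈ Finset.univ.erase (0 : ZMod p), (φ : G → ℂ) (D.x ^ a.val) = (Nat.card D.act.range : ℂ) →
      charDegree (φ : G → ℂ) = charDegree (ζ : G → ℂ) → φ ∈ S.Y := by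
    intro φ hφ hs hdeg
    have hmem : φ ∈ B := by
      by_contra hn
      rw [Finset.sum_eq_zero fun a ha => by
        rw [← DegHalf.over_sec M.theta_one hφ]
        exact D.sec_eq_zero_of_notMem hM hB hn (Finset.ne_of_mem_erase ha)] at hs
      exact Nat.cast_ne_zero.2 (by omega : Nat.card D.act.range ≠ 0) hs.symm
    refine ((S.mem_iff φ).1 hmem).resolve_left fun hX => ?_
    have h := S.deg_X φ hX
    rw [DegHalf.orb_eq M.K0_eq, Finset.card_singleton, one_mul,
      show charDegree (θ : D.K0 → ℂ) = 1 from M.theta_one, hdeg] at h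
    have hd := M.deg
    have h' := Int.modEq_iff_dvd.1 h
    push_cast at h'
    rcases S.sgn_X φ hX with e1 | e1 <;> rw [e1] at h'
    · have h1 : (p : ℤ) ∣ (Nat.card D.act.range : ℤ) + 1 := by
        refine (Int.dvd_iff_dvd_of_dvd_sub ?_).2 h'
        exact ⟨1, by omega⟩
      have := Int.le_of_dvd (by omega) h1
      omega
    · have h1 : (p : ℤ) ∣ (Nat.card D.act.range : ℤ) - 1 := by
        refine (Int.dvd_iff_dvd_of_dvd_sub ?_).2 h'
        exact ⟨1, by omega⟩
      have := Int.le_of_dvd (by omega) h1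
      omega
  have hζY := hsum ζ M.ov (sum_sec_erase M) rfl
  refine S.agree ψ (hsum ψ hov ?_ ?_) ζ hζY g hg
  · simp only [ψ, galIrr_apply]
    rw [← map_sum, sum_sec_erase M, map_natCast]
  · show charDegree (ψ : G → ℂ) = _
    apply Nat.cast_injective (R := ℂ)
    rw [← irr_one_eq, ← irr_one_eq, galIrr_apply, irr_one_eq, map_natCast]

end CfsgLib.Char.SmallLinear
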