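import Mathlib

/-!
# Sums over the elements of prime order when the Sylow subgroups have that order
-/

set_option autoImplicit false

open scoped Classical

namespace CfsgLib.Char.SmallLinear

universe u

variable {X : Type u} [Group X] [Fintype X] {q : ℕ} [hq : Fact q.Prime]

/-- The sum over the elements of order `q` of a class function. -/
theorem sum_orderOf_eq (R : Sylow q X) (hR : Nat.card R = q) {M : Type*} [AddCommMonoid M] (F : X → M)
    (hF : ∀ a b : X, F (b * a * b⁻¹) = F a) :
    ∑ x : X with orderOf x = q, F x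
      = Nat.card (Sylow q X) • ∑ x : X with x ∈ (R : Subgroup X) ∧ x ≠ 1, F x := by
  letI := Fintype.ofFinite (Sylow q X)
  let T : Sylow q X → Finset X := fun S => Finset.univ.filter fun x => x ∈ (S : Subgroup X) ∧ x ≠ 1
  have hcard : ∀ S : Sylow q X, Nat.card (S : Subgroup X) = q := fun S =>
    (Nat.card_congr (S.equiv R).toEquiv).trans hR
  have hord : ∀ (S : Sylow q X) (x : X), x ∈ (S : Subgroup X) → x ≠ 1 → orderOf x = q := fun S x hx h1 => by
    have h := Subgroup.orderOf_dvd_natCard _ hx
    rw [hcard S] at h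
    exact ((Nat.dvd_prime hq.out).1 h).resolve_left fun e => h1 (orderOf_eq_one_iff.1 e)
  have hzp : ∀ (S : Sylow q X) (x : X), x ∈ (S : Subgroup X) → x ≠ 1 → Subgroup.zpowers x = (S : Subgroup X) :=
    fun S x hx h1 => Subgroup.eq_of_le_of_card_ge (Subgroup.zpowers_le.2 hx) (by
      rw [hcard S, Nat.card_zpowers, hord S x hx h1])
  have hdisj : (↑(Finset.univ : Finset (Sylow q X)) : Set (Sylow q X)).PairwiseDisjoint T := by
    intro S _ S' _ hne
    refine Finset.disjoint_left.2 fun x hx hx' => hne (Sylow.ext ?_)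
    simp only [T, Finset.mem_filter] at hx hx'
    rw [← hzp S x hx.2.1 hx.2.2, ← hzp S' x hx'.2.1 hx'.2.2]
  have hunion : (Finset.univ.filter fun x : X => orderOf x = q) = Finset.univ.biUnion T := by
    ext x
    simp only [T, Finset.mem_filter, Finset.mem_univ, true_and, Finset.mem_biUnion]
    constructor
    · intro hx
      have hp : IsPGroup q (Subgroup.zpowers x) := IsPGroup.of_card (n := 1) (by rw [Nat.card_zpowers, hx, pow_one])
      obtain ⟨S, hS⟩ := hp.exists_le_sylow
      exact ⟨S, hS (Subgroup.mem_zpowers x), fun e => by rw [e, orderOf_one] at hx; exact hq.out.ne_one hx.symm⟩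
    · rintro ⟨S, hx, h1⟩
      exact hord S x hx h1
  rw [hunion, Finset.sum_biUnion hdisj, Nat.card_eq_fintype_card, ← Finset.card_univ, ← Finset.sum_const]
  refine Finset.sum_congr rfl fun S _ => ?_
  obtain ⟨g, hg⟩ := MulAction.exists_smul_eq X R S
  refine Finset.sum_equiv (MulAut.conj g⁻¹).toEquiv (fun x => ?_) fun x _ => ?_
  · simp only [T, Finset.mem_filter, Finset.mem_univ, true_and, MulEquiv.toEquiv_eq_coe, EquivLike.coe_coe]
    rw [← hg, Sylow.coe_subgroup_smul, Subgroup.mem_pointwise_smul_iff_inv_smul_mem]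
    refine and_congr (by simp [MulAut.smul_def, mul_assoc]) (not_congr ?_)
    exact (EmbeddingLike.map_eq_one_iff (f := MulAut.conj g⁻¹)).symm
  · show F x = F (g⁻¹ * x * g⁻¹⁻¹)
    rw [hF]

end CfsgLib.Char.SmallLinear
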