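import Cfsg.Agent.Lib.Char.SmallLinear.Setting

/-!
# Elements of order five and three in degree four
-/

set_option autoImplicit false

open scoped Classical ComplexConjugate

namespace CfsgLib.Char.SmallLinear

open Cfsg CfsgLib CfsgLib.Blocks CfsgLib.Blocks.DefectOne

universe u

variable {G : Type u} [Group G] [Fintype G]

/-- The sum over the powers of an element is a multiple of its order. -/
theorem sum_pow_eq {χ : G → ℂ} (hχ : Cfsg.IsCharacter G χ) (g : G) :
    ∃ k : ℕ, ∑ i ∈ Finset.range (orderOf g), χ (g ^ i) = ((orderOf g * k : ℕ) : ℂ) := by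
  obtain ⟨k, hk⟩ := IsCharacter.classInner_nat (IsCharacter.restrict hχ (Subgroup.zpowers g)) isCharacter_one
  refine ⟨k, ?_⟩
  rw [classInner_fun_one_right, Nat.card_zpowers,
    inv_mul_eq_iff_eq_mul₀ (Nat.cast_ne_zero.2 (orderOf_pos g).ne')] at hk
  rw [Nat.cast_mul, ← hk, ← Fin.sum_univ_eq_sum_range (fun i => χ (g ^ i))]
  exact Fintype.sum_equiv (finEquivZPowers (isOfFinOrder_of_finite g)) _ _ fun i => rfl

/-- An element commuting with a regular semisimple element of order five, with constant coset values,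
acts by a scalar. -/
theorem norm_eq_four {χ : G → ℂ} (hχ : Cfsg.IsCharacter G χ) (h4 : χ 1 = 4) {g y : G} (hgy : Commute g y)
    (hy : y ^ 5 = 1) (hval : ∀ k : ℕ, ¬ 5 ∣ k → χ (y ^ k) = -1) {K : ℂ}
    (hK : ∀ k ∈ Finset.Ico 1 5, χ (g * y ^ k) = K) : ‖χ g‖ = 4 := by
  set A := Subgroup.zpowers g × Subgroup.zpowers y
  have hc : ∀ (a : Subgroup.zpowers g) (b : Subgroup.zpowers y),
      Commute ((Subgroup.zpowers g).subtype a) ((Subgroup.zpowers y).subtype b) := fun a b => by
    obtain ⟨i, hi⟩ := Subgroup.mem_zpowers_iff.mp a.2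
    obtain ⟨j, hj⟩ := Subgroup.mem_zpowers_iff.mp b.2
    show Commute (a : G) (b : G)
    rw [← hi, ← hj]
    exact hgy.zpow_zpow i j
  let f : A →* G := MonoidHom.noncommCoprod (Subgroup.zpowers g).subtype (Subgroup.zpowers y).subtype hc
  have hA : ∀ a b : A, a * b = b * a := fun a b => Prod.ext
    (Subtype.ext (by
      obtain ⟨i, hi⟩ := Subgroup.mem_zpowers_iff.mp a.1.2
      obtain ⟨j, hj⟩ := Subgroup.mem_zpowers_iff.mp b.1.2
      show (a.1 : G) * b.1 = b.1 * a.1
      rw [← hi, ← hj, ← zpow_add, ← zpow_add, add_comm]))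
    (Subtype.ext (by
      obtain ⟨i, hi⟩ := Subgroup.mem_zpowers_iff.mp a.2.2
      obtain ⟨j, hj⟩ := Subgroup.mem_zpowers_iff.mp b.2.2
      show (a.2 : G) * b.2 = b.2 * a.2
      rw [← hi, ← hj, ← zpow_add, ← zpow_add, add_comm]))
  obtain ⟨m, -, hexp⟩ := IsCharacter.exists_multiplicity (IsCharacter.comp hχ f)
  choose l hl using fun φ : IrrCharacter A =>
    exists_hom_of_apply_one_eq_one (isCharacter_irr φ) (apply_one_eq_one_of_comm hA φ.2)
  set Y : A := (1, ⟨y, Subgroup.mem_zpowers y⟩)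
  set Γ : A := (⟨g, Subgroup.mem_zpowers g⟩, 1)
  have hY5 : Y ^ 5 = 1 := Prod.ext (one_pow 5) (Subtype.ext hy)
  have hfY : f Y = y := show (1 : G) * y = y from one_mul y
  have hfΓ : f Γ = g := show g * (1 : G) = g from mul_one g
  have hroot : ∀ φ, (l φ Y : ℂ) ^ 5 = 1 := fun φ => by
    rw [← Units.val_pow_eq_pow_val, ← map_pow, hY5, map_one, Units.val_one]
  have hvalA : ∀ (ε : Bool) (k : ℕ), χ ((if ε then g else 1) * y ^ k)
      = ∑ φ, (m φ : ℂ) * ((if ε then (l φ Γ : ℂ) else 1) * (l φ Y : ℂ) ^ k) := by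
    intro ε k
    have h := hexp ((if ε then Γ else 1) * Y ^ k)
    rw [Function.comp_apply] at h
    cases ε <;>
      simpa [hfY, hfΓ, hl, map_mul, map_pow, Units.val_mul, Units.val_pow_eq_pow_val] using h
  obtain ⟨φ₀, h0⟩ : ∃ φ, m φ ≠ 0 := by
    by_contra hc
    push Not at hc
    have h := hexp 1
    rw [Function.comp_apply, map_one, h4] at h
    simp [hc] at h
  set ω : ℂ := (l φ₀ Y : ℂ)⁻¹
  have hω : ω ^ 5 = 1 := by rw [inv_pow, hroot, inv_one]
  have hfour : ∀ ε : Bool, ∑ k ∈ Finset.range 5, χ ((if ε then g else 1) * y ^ k) * ω ^ k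
      = 5 * ∑ φ ∈ Finset.univ.filter (fun φ => (l φ Y : ℂ) * ω = 1), (m φ : ℂ) * (if ε then (l φ Γ : ℂ) else 1) := by
    intro ε
    have h5 : (5 : ℂ) = ((5 : ℕ) : ℂ) := by norm_num
    rw [h5, ← DegreeTools.FeitFour.fourier (fun φ => (m φ : ℂ) * (if ε then (l φ Γ : ℂ) else 1)) (fun φ => (l φ Y : ℂ))
      hroot hω]
    exact Finset.sum_congr rfl fun k _ => by
      rw [hvalA]
      congr 1
      exact Finset.sum_congr rfl fun φ _ => (mul_assoc _ _ _).symm
  have hmem : φ₀ ∈ Finset.univ.filter (fun φ => (l φ Y : ℂ) * ω = 1) :=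
    Finset.mem_filter.2 ⟨Finset.mem_univ _, mul_inv_cancel₀ (Units.ne_zero _)⟩
  by_cases hω1 : ω = 1
  · exfalso
    have h := hfour false
    simp only [Bool.false_eq_true, if_false, one_mul, mul_one, hω1, one_pow, Finset.sum_range_succ,
      Finset.sum_range_zero, pow_zero, h4] at h
    rw [hval 1 (by norm_num), hval 2 (by norm_num), hval 3 (by norm_num), hval 4 (by norm_num)] at h
    rw [← Nat.cast_sum] at h
    have h' : (0 : ℕ) = ∑ φ ∈ Finset.univ.filter (fun φ => (l φ Y : ℂ) * 1 = 1), m φ := by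
      apply Nat.cast_injective (R := ℂ)
      push_cast at h ⊢
      simp only [mul_one]
      linear_combination h / 5
    rw [hω1] at hmem
    exact h0 (Finset.sum_eq_zero_iff.1 h'.symm φ₀ hmem)
  have hgeo : ω + ω ^ 2 + ω ^ 3 + ω ^ 4 = -1 := by
    have h := geom_sum_mul ω 5
    rw [hω, sub_self, mul_eq_zero, or_iff_left (sub_ne_zero.2 hω1)] at h
    simp only [Finset.sum_range_succ, Finset.sum_range_zero, pow_zero, pow_one] at h
    linear_combination h
  have hsum1 : ∑ φ ∈ Finset.univ.filter (fun φ => (l φ Y : ℂ) * ω = 1), m φ = 1 := by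
    have h := hfour false
    simp only [Bool.false_eq_true, if_false, one_mul, mul_one, Finset.sum_range_succ, Finset.sum_range_zero,
      pow_zero, h4] at h
    rw [hval 1 (by norm_num), hval 2 (by norm_num), hval 3 (by norm_num), hval 4 (by norm_num), pow_one] at h
    apply Nat.cast_injective (R := ℂ)
    push_cast
    linear_combination -(1 / 5 : ℂ) * h - (1 / 5 : ℂ) * hgeo
  rw [← Finset.add_sum_erase _ _ hmem] at hsum1
  have hm1 : m φ₀ = 1 := by omega
  have hg := hfour true
  simp only [if_true] at hg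
  rw [← Finset.add_sum_erase _ _ hmem, Finset.sum_eq_zero (s := (Finset.univ.filter (fun φ => (l φ Y : ℂ) * ω = 1)).erase φ₀) fun φ hφ => by
    rw [show m φ = 0 from Finset.sum_eq_zero_iff.1 (show ∑ x ∈ (Finset.univ.filter
      (fun φ => (l φ Y : ℂ) * ω = 1)).erase φ₀, m x = 0 by omega) φ hφ, Nat.cast_zero, zero_mul],
    add_zero, hm1, Nat.cast_one, one_mul] at hg
  simp only [Finset.sum_range_succ, Finset.sum_range_zero, zero_add, pow_zero, mul_one, pow_one] at hg
  have hKk : ∀ k, 1 ≤ k → k < 5 → χ (g * y ^ k) = K := fun k h1 h2 => hK k (Finset.mem_Ico.2 ⟨h1, h2⟩)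
  rw [show χ (g * y) = K by rw [← pow_one y]; exact hKk 1 le_rfl (by norm_num), hKk 2 (by norm_num) (by norm_num),
    hKk 3 (by norm_num) (by norm_num), hKk 4 (by norm_num) (by norm_num)] at hg
  -- the sum over the coset
  have hzero : χ g + 4 * K = 0 := by
    have h : ∑ k ∈ Finset.range 5, χ (g * y ^ k) * 1 ^ k = 0 := by
      have h1 := DegreeTools.FeitFour.fourier (fun φ => (m φ : ℂ) * (l φ Γ : ℂ)) (fun φ => (l φ Y : ℂ))
        hroot (one_pow 5)
      have h2 := DegreeTools.FeitFour.fourier (fun φ => (m φ : ℂ)) (fun φ => (l φ Y : ℂ))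
        hroot (one_pow 5)
      rw [Finset.sum_congr rfl (g := fun k => χ (y ^ k)) fun k _ => by
        have := hvalA false k
        simp only [Bool.false_eq_true, if_false, one_mul] at this
        rw [one_pow, mul_one, this]] at h2
      simp only [Finset.sum_range_succ, Finset.sum_range_zero, pow_zero, zero_add, h4] at h2
      rw [hval 1 (by norm_num), hval 2 (by norm_num), hval 3 (by norm_num), hval 4 (by norm_num),
        ← Nat.cast_sum] at h2
      have h' : (0 : ℕ) = ∑ φ ∈ Finset.univ.filter (fun φ => (l φ Y : ℂ) * 1 = 1), m φ := by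
        apply Nat.cast_injective (R := ℂ)
        push_cast at h2 ⊢
        linear_combination h2 / 5
      rw [Finset.sum_congr rfl fun k _ => by
        have := hvalA true k
        simp only [if_true] at this
        rw [this, Finset.sum_congr rfl fun φ _ => (mul_assoc _ _ _).symm], h1,
        Finset.sum_eq_zero fun φ hφ => by
          rw [Finset.sum_eq_zero_iff.1 h'.symm φ hφ, Nat.cast_zero, zero_mul], mul_zero]
    simp only [Finset.sum_range_succ, Finset.sum_range_zero, zero_add, pow_zero, mul_one, one_pow] at h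
    rw [hKk 1 le_rfl (by norm_num), hKk 2 (by norm_num) (by norm_num),
      hKk 3 (by norm_num) (by norm_num), hKk 4 (by norm_num) (by norm_num)] at h
    linear_combination h
  have hg4 : χ g = 4 * (l φ₀ Γ : ℂ) := by
    have h1 : K = -(l φ₀ Γ : ℂ) := by linear_combination -(1 / 5 : ℂ) * hg + (1 / 5 : ℂ) * hzero + (K / 5) * hgeo
    linear_combination hzero - 4 * h1
  have hroot' : (l φ₀ Γ : ℂ) ^ orderOf Γ = 1 := by
    rw [← Units.val_pow_eq_pow_val, ← map_pow, pow_orderOf_eq_one, map_one, Units.val_one]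
  rw [hg4, norm_mul, Complex.norm_eq_one_of_pow_eq_one hroot' (orderOf_pos Γ).ne']
  norm_num

end CfsgLib.Char.SmallLinear
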