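import Cfsg.Agent.Lib.Char.SmallLinear.Order
import Cfsg.Agent.Lib.Char.SmallLinear.Five
import Cfsg.Agent.Lib.Char.SmallLinear.Count
import Cfsg.Agent.S0984

/-!
# Degree four at the prime seven
-/

set_option autoImplicit false

namespace CfsgLib.Char.SmallLinear

theorem candidates_aux : ∀ a : Fin 15, ∀ b : Fin 3, ∀ c : Fin 2, ∀ f : Fin 2,
    (2 ^ a.val * 3 ^ b.val * 5 ^ c.val * 7 ^ f.val) % 147 = 21 → f.val = 1 ∧
      (b.val = 1 ∧ c.val = 0 ∨
        b.val = 2 ∧ c.val = 1 ∧ (a.val = 0 ∨ a.val = 3 ∨ a.val = 6 ∨ a.val = 9 ∨ a.val = 12)) := by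
  decide +kernel

theorem candidates_degFour (a : ℕ) (ha : a < 15) (b : ℕ) (hb : b < 3) (c : ℕ) (hc : c < 2) (f : ℕ) (hf : f < 2)
    (h : (2 ^ a * 3 ^ b * 5 ^ c * 7 ^ f) % 147 = 21) :
    f = 1 ∧ (b = 1 ∧ c = 0 ∨ b = 2 ∧ c = 1 ∧ (a = 0 ∨ a = 3 ∨ a = 6 ∨ a = 9 ∨ a = 12)) :=
  candidates_aux ⟨a, ha⟩ ⟨b, hb⟩ ⟨c, hc⟩ ⟨f, hf⟩ h

theorem not_sum_two_sq_aux : ∀ u < 9, ∀ w < 9, u * u + w * w ≠ 56 := by decide

end CfsgLib.Char.SmallLinear

open scoped Classical ComplexConjugate

namespace CfsgLib.Char.SmallLinear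

open Cfsg CfsgLib CfsgLib.Blocks CfsgLib.Blocks.DefectOne CfsgLib.CharDeep.ExactP

universe u

variable {G : Type u} [Group G] [Fintype G]

namespace Small

variable {p : ℕ} [hp : Fact p.Prime] {P : Sylow p G} {D : Frame P} {ζ : IrrCharacter G} {θ : IrrCharacter D.K0}
  {c : (ZMod p)ˣ} {d e : ℕ} (S : Small D ζ θ c d e)
include S

/-- Commuting images of an element of prime order prime to the degree come from commuting elements. -/
theorem commute_of_image {q : ℕ} (hq : q.Prime) (hqd : ¬ q ∣ d) {g y : G} (hy : y ^ q = 1)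
    (h : Commute (g : G ⧸ Subgroup.center G) (y : G ⧸ Subgroup.center G)) : Commute g y := by
  set z := g * y * g⁻¹ * y⁻¹ with hz
  have hzZ : z ∈ Subgroup.center G := by
    rw [← QuotientGroup.eq_one_iff, hz]
    simp only [QuotientGroup.mk_mul, QuotientGroup.mk_inv]
    rw [h.eq, mul_inv_cancel_right, mul_inv_cancel]
  have hgy : g * y * g⁻¹ = z * y := by rw [hz, inv_mul_cancel_right]
  have h1 : z ^ q = 1 := by
    have h2 : (z * y) ^ q = 1 := by rw [← hgy, _root_.conj_pow, hy, mul_one, mul_inv_cancel]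
    rwa [(show Commute z y from (Subgroup.mem_center_iff.1 hzZ y).symm).mul_pow, hy, mul_one] at h2
  have h3 : z = 1 := by
    have h4 := pow_gcd_eq_one.2 ⟨h1, S.zpow z hzZ⟩
    rwa [(hq.coprime_iff_not_dvd.2 hqd).gcd_eq_one, pow_one] at h4
  rw [h3, one_mul, mul_inv_eq_iff_eq_mul] at hgy
  exact hgy

/-- Sylow subgroups correspond. -/
theorem card_sylow_quotient {q : ℕ} [hq : Fact q.Prime] (hqd : ¬ q ∣ d) (R : Sylow q G) (hR : Nat.card R = q) :
    Nat.card (Sylow q (G ⧸ Subgroup.center G)) = (nrm R).index := by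
  set f := QuotientGroup.mk' (Subgroup.center G)
  set R' := R.mapSurjective (QuotientGroup.mk'_surjective (Subgroup.center G))
  rw [R'.card_eq_index_normalizer,
    ← Subgroup.index_comap_of_surjective (f := f) _ (QuotientGroup.mk'_surjective _)]
  congr 1
  ext g
  simp only [Subgroup.mem_comap, Subgroup.mem_normalizer_iff]
  have hcoe : ∀ x : G ⧸ Subgroup.center G, x ∈ R' ↔ x ∈ (R : Subgroup G).map f := fun x => Iff.rfl
  constructor
  · intro h u
    have key : ∀ b : G, f b ∈ R' → b ^ q = 1 → b ∈ (R : Subgroup G) := by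
      intro b hb hb1
      obtain ⟨a, ha, he⟩ := (hcoe _).1 hb
      have hz : a⁻¹ * b ∈ Subgroup.center G := by
        rw [← QuotientGroup.eq_one_iff]
        show f (a⁻¹ * b) = 1
        rw [map_mul, map_inv, he, inv_mul_cancel]
      have ha1 : a ^ q = 1 := by
        rw [← hR]
        exact congrArg Subtype.val (pow_card_eq_one' (x := (⟨a, ha⟩ : (R : Subgroup G))))
      have h2 : (a⁻¹ * b) ^ q = 1 := by
        have h3 : Commute a (a⁻¹ * b) := Subgroup.mem_center_iff.1 hz a
        have h4 := h3.mul_pow q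
        rwa [mul_inv_cancel_left, hb1, ha1, one_mul, eq_comm] at h4
      have h5 := pow_gcd_eq_one.2 ⟨h2, S.zpow _ hz⟩
      rw [(hq.out.coprime_iff_not_dvd.2 hqd).gcd_eq_one, pow_one, inv_mul_eq_one] at h5
      exact h5 ▸ ha
    have hpow : ∀ a ∈ (R : Subgroup G), a ^ q = 1 := fun a ha => by
      rw [← hR]
      exact congrArg Subtype.val (pow_card_eq_one' (x := (⟨a, ha⟩ : (R : Subgroup G))))
    constructor
    · intro hu
      refine key _ ?_ (by rw [_root_.conj_pow, hpow u hu, mul_one, mul_inv_cancel])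
      rw [map_mul, map_mul, map_inv]
      exact (h (f u)).1 ((hcoe _).2 (Subgroup.mem_map_of_mem f hu))
    · intro hu
      have h1 : u ^ q = 1 := by
        have h2 := hpow _ hu
        rw [_root_.conj_pow, mul_inv_eq_one] at h2
        exact mul_eq_left.1 h2
      refine key u ((h (f u)).2 ?_) h1
      rw [← map_inv, ← map_mul, ← map_mul]
      exact (hcoe _).2 (Subgroup.mem_map_of_mem f hu)
  · intro h u
    show u ∈ (R : Subgroup G).map f ↔ f g * u * (f g)⁻¹ ∈ (R : Subgroup G).map f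
    constructor
    · rintro ⟨a, ha, rfl⟩
      exact ⟨g * a * g⁻¹, (h a).1 ha, by rw [map_mul, map_mul, map_inv]⟩
    · rintro ⟨a, ha, he⟩
      refine ⟨g⁻¹ * a * g, (h _).2 ?_, ?_⟩
      · rwa [show g * (g⁻¹ * a * g) * g⁻¹ = a by group]
      · rw [map_mul, map_mul, map_inv, he]; group

/-- The sum of a class function over the images of prime order. -/
theorem sum_image {q : ℕ} [hq : Fact q.Prime] (hqd : ¬ q ∣ d) (R : Sylow q G) (hR : Nat.card R = q) {y : G}
    (hy : orderOf y = q) (hyR : Subgroup.zpowers y = (R : Subgroup G)) (Φ : G ⧸ Subgroup.center G → ℂ)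
    (hΦ : ∀ a b : G ⧸ Subgroup.center G, Φ (b * a * b⁻¹) = Φ a) :
    ∑ x : G ⧸ Subgroup.center G with orderOf x = q, Φ x
      = ((nrm R).index : ℂ) *
        ∑ i ∈ Finset.Ico 1 q, Φ ((y ^ i : G) : G ⧸ Subgroup.center G) := by
  set f := QuotientGroup.mk' (Subgroup.center G)
  set R' := R.mapSurjective (QuotientGroup.mk'_surjective (Subgroup.center G))
  have hcoe : (R' : Subgroup (G ⧸ Subgroup.center G)) = Subgroup.zpowers (f y) := by
    rw [← MonoidHom.map_zpowers, hyR]; rfl
  have hyo : orderOf (f y) = q := by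
    refine orderOf_eq_prime (by rw [← map_pow, ← hy, pow_orderOf_eq_one, map_one]) fun h => ?_
    have hyq : IsPGroup q (Subgroup.zpowers y) := IsPGroup.of_card (n := 1) (by rw [Nat.card_zpowers, hy, pow_one])
    have := S.eq_one_of_center hqd hq.out ((QuotientGroup.eq_one_iff y).1 h) hyq
    rw [this, orderOf_one] at hy
    exact hq.out.ne_one hy.symm
  have hR' : Nat.card R' = q := by
    show Nat.card (R' : Subgroup (G ⧸ Subgroup.center G)) = q
    rw [hcoe, Nat.card_zpowers, hyo]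
  rw [sum_orderOf_eq R' hR' Φ hΦ, S.card_sylow_quotient hqd R hR, nsmul_eq_mul]
  congr 1
  symm
  refine Finset.sum_bij (fun i _ => f (y ^ i)) (fun i hi => ?_) (fun i hi j hj he => ?_) (fun x hx => ?_)
    (fun i _ => rfl)
  · rw [Finset.mem_Ico] at hi
    simp only [Finset.mem_filter]
    refine ⟨Finset.mem_univ _, hcoe ▸ ?_, ?_⟩
    · rw [map_pow]; exact Subgroup.pow_mem _ (Subgroup.mem_zpowers _) i
    · rw [map_pow]
      intro h
      have := Nat.le_of_dvd (by omega) (orderOf_dvd_of_pow_eq_one h)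
      rw [hyo] at this
      omega
  · rw [map_pow, map_pow] at he
    exact pow_injOn_Iio_orderOf (by simp only [Set.mem_Iio, hyo]; exact (Finset.mem_Ico.1 hi).2)
      (by simp only [Set.mem_Iio, hyo]; exact (Finset.mem_Ico.1 hj).2) he
  · simp only [Finset.mem_filter] at hx
    obtain ⟨-, hxR, hx1⟩ := hx
    rw [hcoe] at hxR
    obtain ⟨i, hi⟩ : ∃ i : ℕ, f y ^ i = x := mem_powers_iff_mem_zpowers.2 hxR
    refine ⟨i % q, Finset.mem_Ico.2 ⟨?_, Nat.mod_lt _ hq.out.pos⟩, by rw [map_pow, ← hyo, pow_mod_orderOf, hi]⟩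
    refine Nat.one_le_iff_ne_zero.2 fun h0 => hx1 ?_
    rw [← hi, ← pow_mod_orderOf, hyo, h0, pow_zero]

end Small

variable [Fact (Nat.Prime 7)] {P : Sylow 7 G} {D : Frame P} {ζ : IrrCharacter G} {θ : IrrCharacter D.K0}
  {c : (ZMod 7)ˣ}

namespace Small

variable (S : Small D ζ θ c 4 3)
include S

theorem not_sylow_five : ¬ 5 ∣ Nat.card (cent P) := by
  rw [D.card_cent, S.minus.K0_eq]
  intro h
  rcases (show Nat.Prime 5 by norm_num).dvd_mul.1 h with h | h
  · norm_num at h
  · exact S.not_dvd_center (by norm_num) (by norm_num) h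

/-- Values on a coset of an element of order five are constant. -/
theorem coset_const {g y : G} (hy : y ^ 5 = 1) (hgy : Commute g y) (hg5 : ¬ 5 ∣ orderOf g)
    (hg7 : ∀ k : ℕ, ¬ 7 ∣ orderOf (g * y ^ k)) {k : ℕ} (hk : ¬ 5 ∣ k) :
    (ζ : G → ℂ) (g * y ^ k) = (ζ : G → ℂ) (g * y) := by
  set m := orderOf g
  have hm : m ≠ 0 := (orderOf_pos g).ne'
  have hcop : Nat.Coprime 5 (4 * m) :=
    (show Nat.Prime 5 by norm_num).coprime_iff_not_dvd.2 fun h => by
      rcases (show Nat.Prime 5 by norm_num).dvd_mul.1 h with h | h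
      · norm_num at h
      · exact hg5 h
  obtain ⟨j, hj1, hj2⟩ := Nat.chineseRemainder hcop k 1
  have hj4 : j % 4 = 1 := by
    have := hj2.of_mul_right m
    exact this
  have hjc : j.Coprime (5 * (4 * m)) := by
    refine Nat.Coprime.mul_right ?_ ?_
    · rw [Nat.coprime_iff_gcd_eq_one, hj1.gcd_eq, Nat.gcd_comm]
      exact Nat.coprime_iff_gcd_eq_one.1 ((show Nat.Prime 5 by norm_num).coprime_iff_not_dvd.2 hk)
    · rw [Nat.coprime_iff_gcd_eq_one, hj2.gcd_eq, Nat.gcd_one_left]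
  obtain ⟨σ, hσ⟩ := DegreeTools.FeitFour.exists_sigma (by omega) hjc
  have hfix : ∀ r : ℂ, r ^ 4 = 1 → σ r = r := fun r hr => by
    rw [hσ r (by rw [show 5 * (4 * m) = 4 * (5 * m) by ring, pow_mul, hr, one_pow]), pow_eq_pow_mod j hr, hj4,
      pow_one]
  have h7 : ¬ 7 ∣ orderOf (g * y) := by simpa using hg7 1
  set w := g * y
  have hw : w ^ (5 * (4 * m)) = 1 := by
    rw [hgy.mul_pow, show 5 * (4 * m) = m * 20 by ring, pow_mul, pow_orderOf_eq_one, one_pow, one_mul,
      show m * 20 = 5 * (4 * m) by ring, pow_mul, hy, one_pow]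
  have h1 : σ ((ζ : G → ℂ) w) = (ζ : G → ℂ) (w ^ j) := by
    obtain ⟨n, ρ, -, hρ⟩ := ζ.2
    obtain ⟨μ, hμ, hkk⟩ := exists_eigenvalues ρ w
    have e1 := hkk 1
    rw [pow_one] at e1
    rw [← hρ, e1, hkk j, map_sum]
    refine Finset.sum_congr rfl fun i _ => ?_
    rw [pow_one]
    refine hσ _ ?_
    obtain ⟨q, hq⟩ := orderOf_dvd_of_pow_eq_one hw
    rw [hq, pow_mul, hμ i, one_pow]
  have h2 : w ^ j = g * y ^ k := by
    rw [hgy.mul_pow]
    congr 1
    · have h3 : j ≡ 1 [MOD m] := hj2.of_mul_left 4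
      rw [← pow_mod_orderOf, h3, pow_mod_orderOf, pow_one]
    · rw [pow_eq_pow_mod j hy, hj1, ← pow_eq_pow_mod k hy]
  rw [← h2, ← h1]
  exact (S.fixed h7 σ hfix).1

/-- An element of order five has the values `-1`. -/
theorem five_val {y : G} (hy : orderOf y = 5) {k : ℕ} (hk : ¬ 5 ∣ k) : (ζ : G → ℂ) (y ^ k) = -1 := by
  have hy5 : y ^ 5 = 1 := hy ▸ pow_orderOf_eq_one y
  have h7 : ∀ k : ℕ, ¬ 7 ∣ orderOf (1 * y ^ k) := fun k h => by
    rw [one_mul] at h
    have := (h.trans (orderOf_pow_dvd k))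
    rw [hy] at this
    norm_num at this
  have hconst : ∀ k : ℕ, ¬ 5 ∣ k → (ζ : G → ℂ) (y ^ k) = (ζ : G → ℂ) y := fun k hk => by
    have := S.coset_const hy5 (Commute.one_left y) (by rw [orderOf_one]; norm_num) h7 hk
    rwa [one_mul, one_mul] at this
  obtain ⟨z, hz, hlt⟩ := S.exists_int (q := 5) (by norm_num) (by norm_num) (by norm_num) (g := y)
    (IsPGroup.of_card (n := 1) (by rw [Nat.card_zpowers, hy, pow_one]))
  obtain ⟨q, hq⟩ := sum_pow_eq (isCharacter_irr ζ) y
  rw [hy] at hq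
  simp only [Finset.sum_range_succ, Finset.sum_range_zero, zero_add, pow_zero, pow_one, S.apply_one,
    hconst 2 (by norm_num), hconst 3 (by norm_num), hconst 4 (by norm_num), hz] at hq
  have hq' : (4 : ℤ) + z + z + z + z = ((5 * q : ℕ) : ℤ) := by exact_mod_cast hq
  have := hlt fun h => by rw [h, orderOf_one] at hy; omega
  rw [hconst k hk, hz, show z = -1 by omega]
  norm_num

/-- Only central elements commute with an element of order five. -/
theorem K0_five [Fact (Nat.Prime 5)] {R : Sylow 5 G} (D5 : Frame R) : D5.K0 = Subgroup.center G := by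
  refine le_antisymm (fun t ht => ?_) fun z hz => (D5.mem_K0 z).2 ⟨(Subgroup.mem_center_iff.1 hz D5.x).symm, fun h => ?_⟩
  swap
  · have := h.trans (orderOf_dvd_of_pow_eq_one (S.zpow z hz))
    norm_num at this
  by_contra htZ
  set m := orderOf (t : G ⧸ Subgroup.center G)
  have hm1 : m ≠ 1 := fun h => htZ ((QuotientGroup.eq_one_iff t).1 (orderOf_eq_one_iff.1 h))
  obtain ⟨q, hq, hqm⟩ := Nat.exists_prime_and_dvd hm1
  set g := t ^ (m / q)
  have hg : g ∈ D5.K0 := pow_mem ht _
  have hgo : orderOf (g : G ⧸ Subgroup.center G) = q := by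
    rw [QuotientGroup.mk_pow, orderOf_pow_of_dvd (Nat.div_pos (Nat.le_of_dvd (orderOf_pos _) hqm) hq.pos).ne'
      (Nat.div_dvd_of_dvd hqm), Nat.div_div_self hqm (orderOf_pos _).ne']
  have hg5 := D5.regular hg
  have hq5 : q ≠ 5 := fun h => hg5 (by
    have h1 : orderOf (g : G ⧸ Subgroup.center G) ∣ orderOf g := orderOf_map_dvd (QuotientGroup.mk' _) g
    rw [hgo, h] at h1
    exact h1)
  have hy5 : D5.x ^ 5 = 1 := PrimeOrder.pow_prime_eq_one D5.ord
  have hcomm : Commute g D5.x := D5.commute_x hg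
  have hgZ : g ∉ Subgroup.center G := fun h => hq.ne_one (by
    rw [← hgo, orderOf_eq_one_iff, QuotientGroup.eq_one_iff]; exact h)
  by_cases hq7 : q = 7
  · have h28 : g ^ (7 * 4) = 1 := by
      rw [pow_mul]
      refine S.zpow _ ((QuotientGroup.eq_one_iff _).1 ?_)
      rw [QuotientGroup.mk_pow, ← hq7, ← hgo, pow_orderOf_eq_one]
    have ho : orderOf (g ^ 4) = 7 := by
      refine orderOf_eq_prime (by rw [← pow_mul]; exact h28) fun h => ?_
      have h1 : (g : G ⧸ Subgroup.center G) ^ 4 = 1 := by rw [← QuotientGroup.mk_pow, h, QuotientGroup.mk_one]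
      have := orderOf_dvd_of_pow_eq_one h1
      rw [hgo, hq7] at this
      norm_num at this
    obtain ⟨h, hh⟩ := FeitDegree.Index.exists_conj_sylow D.card_P ho
    refine S.not_sylow_five ?_
    have hmem : h * D5.x * h⁻¹ ∈ cent P := by
      rw [Subgroup.mem_centralizer_iff]
      intro u hu
      rw [SetLike.mem_coe, hh] at hu
      obtain ⟨w, hw, rfl⟩ := hu
      obtain ⟨i, rfl⟩ := Subgroup.mem_zpowers_iff.1 hw
      show h * (g ^ 4) ^ i * h⁻¹ * (h * D5.x * h⁻¹) = h * D5.x * h⁻¹ * (h * (g ^ 4) ^ i * h⁻¹)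
      have h1 : Commute ((g ^ 4) ^ i) D5.x := (hcomm.pow_left 4).zpow_left i
      calc _ = h * ((g ^ 4) ^ i * D5.x) * h⁻¹ := by group
        _ = h * (D5.x * (g ^ 4) ^ i) * h⁻¹ := by rw [h1.eq]
        _ = _ := by group
    have ho5 : orderOf (⟨_, hmem⟩ : cent P) = 5 := by
      rw [Subgroup.orderOf_mk, show h * D5.x * h⁻¹ = MulAut.conj h D5.x from rfl, MulEquiv.orderOf_eq, D5.ord]
    exact ho5 ▸ orderOf_dvd_natCard _
  have hg7 : ∀ k : ℕ, ¬ 7 ∣ orderOf (g * D5.x ^ k) := fun k => S.regular_of_image (n := q * 5) (fun h => by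
      rcases (show Nat.Prime 7 by norm_num).dvd_mul.1 h with h | h
      · exact hq7 ((Nat.prime_dvd_prime_iff_eq (by norm_num) hq).1 h).symm
      · norm_num at h) (by
    rw [← QuotientGroup.mk_pow, (hcomm.pow_right k).mul_pow, ← pow_mul D5.x, show k * (q * 5) = 5 * (k * q) by ring,
      pow_mul D5.x, hy5, one_pow, mul_one, QuotientGroup.mk_pow, pow_mul, ← hgo, pow_orderOf_eq_one, one_pow])
  refine hgZ (DegreeTools.mem_center_of_norm_eq ζ S.faith g ?_)
  rw [norm_eq_four (isCharacter_irr ζ) (by rw [S.apply_one]; norm_num) hcomm hy5 (fun k hk => S.five_val D5.ord hk)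
    (K := (ζ : G → ℂ) (g * D5.x)) (fun k hk => S.coset_const hy5 hcomm hg5 hg7 (fun h => by
      rw [Finset.mem_Ico] at hk
      have := Nat.le_of_dvd (by omega) h
      omega)), S.deg]
  norm_num

/-- An element of order three has a nonzero value. -/
theorem three_ne_zero' {g : G} (hg : orderOf g = 3) : (ζ : G → ℂ) g ≠ 0 := by
  intro h0
  obtain ⟨k, hk⟩ := sum_pow_eq (isCharacter_irr ζ) g
  rw [hg] at hk
  have h2 : (ζ : G → ℂ) (g ^ 2) = 0 := by
    have hinv : g ^ 2 = g⁻¹ := eq_inv_of_mul_eq_one_left (by rw [← pow_succ]; exact orderOf_dvd_iff_pow_eq_one.1 hg.dvd)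
    rw [hinv, IsCharacter.apply_inv (isCharacter_irr ζ), h0, map_zero]
  simp only [Finset.sum_range_succ, Finset.sum_range_zero, zero_add, pow_zero, pow_one, S.apply_one, h0, h2,
    add_zero] at hk
  have : 4 = 3 * k := by exact_mod_cast hk
  omega

/-- The large orders do not occur. -/
theorem false_big [Fact (Nat.Prime 5)] {a : ℕ} (ha : a = 6 ∨ a = 9 ∨ a = 12)
    (hn : Nat.card (G ⧸ Subgroup.center G) = 2 ^ a * 315) : False := by
  haveI : Fact (Nat.Prime 3) := ⟨Nat.prime_three⟩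
  set n := Nat.card (G ⧸ Subgroup.center G) with hndef
  set z := Nat.card (Subgroup.center G) with hzdef
  have hz0 : 0 < z := Nat.card_pos
  have hG : Nat.card G = n * z := Subgroup.card_eq_card_quotient_mul_card_subgroup _
  obtain ⟨R⟩ : Nonempty (Sylow 5 G) := inferInstance
  have hR : Nat.card R = 5 := by
    show Nat.card (R : Subgroup G) = 5
    rw [R.card_eq_multiplicity, hG, hn, Nat.factorization_mul (by positivity) hz0.ne',
      Finsupp.add_apply, Nat.factorization_eq_zero_of_not_dvd (S.not_dvd_center (by norm_num) (by norm_num)),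
      add_zero, Nat.factorization_mul (by positivity) (by norm_num), Finsupp.add_apply,
      Nat.factorization_eq_zero_of_not_dvd (fun h => by
        have := (show Nat.Prime 5 by norm_num).dvd_of_dvd_pow h; norm_num at this), zero_add,
      show (315 : ℕ).factorization 5 = 1 by
        rw [show (315 : ℕ) = 5 ^ 1 * 63 by norm_num, Nat.factorization_mul (by norm_num) (by norm_num),
          Finsupp.add_apply, Nat.factorization_eq_zero_of_not_dvd (show ¬ 5 ∣ 63 by norm_num), Nat.Prime.factorization_pow (by norm_num)]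
        simp,
      pow_one]
  obtain ⟨D5⟩ := exists_frame R hR
  set e5 := Nat.card D5.act.range with he5
  have he : e5 ∣ 4 := by
    have h := D5.act.range.card_subgroup_dvd_card
    rwa [Nat.card_eq_fintype_card (α := (ZMod 5)ˣ), ZMod.card_units] at h
  have hnrm : n = 5 * e5 * (nrm R).index := by
    have h := (nrm R).card_mul_index
    rw [D5.card_nrm, D5.card_cent, S.K0_five D5, hG, ← he5, ← hzdef] at h
    refine Nat.eq_of_mul_eq_mul_right hz0 ?_
    rw [← h]; ring
  have hidx5 : (nrm R).index % 5 = 1 := by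
    have h : (Subgroup.normalizer (R : Set G)).index ≡ 1 [MOD 5] := by
      rw [← R.card_eq_index_normalizer]; exact card_sylow_modEq_one 5 G
    exact h
  have hcases : e5 = 1 ∨ e5 = 2 := by
    have h4 : e5 ≤ 4 := Nat.le_of_dvd (by norm_num) he
    have he0 : 0 < e5 := Nat.card_pos
    rcases (show e5 = 1 ∨ e5 = 2 ∨ e5 = 3 ∨ e5 = 4 by omega) with h | h | h | h
    · exact Or.inl h
    · exact Or.inr h
    · rw [h] at he; norm_num at he
    · exfalso
      rw [h, hn] at hnrm
      rcases ha with rfl | rfl | rfl <;> omega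
  have hP : Nat.card P = 7 := D.card_P
  have hn7 : n = 21 * (nrm P).index := by
    have h := (nrm P).card_mul_index
    rw [D.card_nrm, D.card_cent, S.minus.K0_eq, S.range, hG, ← hzdef] at h
    refine Nat.eq_of_mul_eq_mul_right hz0 ?_
    rw [← h]; ring
  -- the squared modulus
  obtain ⟨Φ, hΦ, hval, htot⟩ := S.exists_phi
  set r : G ⧸ Subgroup.center G → ℝ := fun x => (Φ x).re
  have hr : ∀ x, Φ x = (r x : ℂ) ∧ 0 ≤ r x := fun x => by
    obtain ⟨g, rfl⟩ := QuotientGroup.mk_surjective x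
    simp only [r, hval, Complex.mul_conj', ← Complex.ofReal_pow, Complex.ofReal_re]
    exact ⟨trivial, sq_nonneg _⟩
  have hcls : ∀ a b : G ⧸ Subgroup.center G, Φ (b * a * b⁻¹) = Φ a := fun a b => IsCharacter.isClassFunction hΦ a b
  have hsum5 := S.sum_image (q := 5) (by norm_num) R hR D5.ord D5.zp Φ hcls
  have hsum7 := S.sum_image (q := 7) (by norm_num) P hP D.ord D.zp Φ hcls
  have h5 : ∑ x : G ⧸ Subgroup.center G with orderOf x = 5, Φ x = ((4 * (nrm R).index : ℕ) : ℂ) := by
    rw [hsum5,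
      Finset.sum_congr rfl (g := fun _ => (1 : ℂ)) fun i hi => ?_, Finset.sum_const, Nat.card_Ico, nsmul_eq_mul]
    · push_cast
      simp
      ring
    · rw [Finset.mem_Ico] at hi
      rw [hval, S.five_val D5.ord (fun h => by have := Nat.le_of_dvd (by omega) h; omega)]
      simp
  have h7 : ∑ x : G ⧸ Subgroup.center G with orderOf x = 7, Φ x = ((12 * (nrm P).index : ℕ) : ℂ) := by
    rw [hsum7]
    have hnP : ∀ k : ZMod 7, nP D ζ k ^ 2 = if k ∈ FeitDegree.Setup.cos D c then 0 else 1 := fun k => by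
      rw [FeitDegree.Members.Minus_nP S.minus]; split_ifs <;> norm_num
    have hnorm := sum_normSq_xpow D ζ
    have hfour : ∑ k : ZMod 7, nP D ζ k ^ 2 = 4 := by
      simp only [hnP]
      rw [Finset.sum_ite, Finset.sum_const_zero, zero_add, Finset.sum_const, smul_eq_mul, mul_one,
        Finset.filter_notMem_eq_sdiff, Finset.card_sdiff, Finset.inter_univ, Finset.card_univ, ZMod.card,
        FeitDegree.Setup.card_cos, S.range]
    rw [hfour] at hnorm
    have h28 : ∑ i ∈ Finset.range 7, Φ ((D.x ^ i : G) : G ⧸ Subgroup.center G) = 28 := by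
      rw [← Fin.sum_univ_eq_sum_range (fun i => Φ ((D.x ^ i : G) : G ⧸ Subgroup.center G))]
      simp only [hval]
      refine Eq.trans ?_ (hnorm.trans (by norm_num))
      rfl
    rw [Finset.range_eq_Ico, Finset.sum_eq_sum_Ico_succ_bot (by norm_num : 0 < 7), pow_zero, hval, S.apply_one] at h28
    simp only [zero_add, Nat.cast_ofNat, map_ofNat] at h28
    rw [show ∑ i ∈ Finset.Ico 1 7, Φ ((D.x ^ i : G) : G ⧸ Subgroup.center G) = 12 by linear_combination h28]
    push_cast
    ring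
  -- the sum over the elements of order prime to three
  obtain ⟨k, hk⟩ := sum_regular_dvd hΦ 3
  rw [show Nat.card (G ⧸ Subgroup.center G) / 3 ^ (Nat.card (G ⧸ Subgroup.center G)).factorization 3 = 35 * 2 ^ a by
    rw [← hndef, hn, show 2 ^ a * 315 = 3 ^ 2 * (35 * 2 ^ a) by ring,
      Nat.factorization_mul (by norm_num) (by positivity), Finsupp.add_apply,
      Nat.Prime.factorization_pow Nat.prime_three, Finsupp.single_eq_same,
      Nat.factorization_eq_zero_of_not_dvd (show ¬ 3 ∣ 35 * 2 ^ a from fun h => by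
        rcases Nat.prime_three.dvd_mul.1 h with h | h
        · norm_num at h
        · have := Nat.prime_three.dvd_of_dvd_pow h; norm_num at this), add_zero, Nat.mul_div_cancel_left _ (by norm_num)]] at hk
  set T3 := Finset.univ.filter fun x : G ⧸ Subgroup.center G => ¬ 3 ∣ orderOf x
  have hk' : ∑ x ∈ T3, r x = ((35 * 2 ^ a : ℕ) : ℝ) * (k : ℝ) := by
    apply Complex.ofReal_injective
    rw [Complex.ofReal_sum, Finset.sum_congr rfl fun x _ => ((hr x).1).symm, hk]
    push_cast; rfl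
  set U := insert (1 : G ⧸ Subgroup.center G) ((Finset.univ.filter fun x : G ⧸ Subgroup.center G => orderOf x = 5) ∪
    (Finset.univ.filter fun x : G ⧸ Subgroup.center G => orderOf x = 7))
  have hU : ∑ x ∈ U, r x = 16 + ((4 * (nrm R).index : ℕ) : ℝ) + ((12 * (nrm P).index : ℕ) : ℝ) := by
    apply Complex.ofReal_injective
    rw [Complex.ofReal_sum, Finset.sum_congr rfl fun x _ => ((hr x).1).symm,
      Finset.sum_insert (by simp), Finset.sum_union (Finset.disjoint_left.2 fun x hx hx' => by simp only [Finset.mem_filter] at hx hx'; omega), h5, h7,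
      ← QuotientGroup.mk_one, hval, S.apply_one, map_natCast]
    push_cast
    ring
  have hUle : ∑ x ∈ U, r x ≤ ∑ x ∈ T3, r x := Finset.sum_le_sum_of_subset_of_nonneg
    (fun x hx => by
      simp only [U, Finset.mem_insert, Finset.mem_union, Finset.mem_filter, Finset.mem_univ, true_and] at hx
      refine Finset.mem_filter.2 ⟨Finset.mem_univ _, ?_⟩
      rcases hx with rfl | h | h
      · rw [orderOf_one]; norm_num
      · rw [h]; norm_num
      · rw [h]; norm_num) fun x _ _ => (hr x).2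
  have hall : ∑ x, r x = (n : ℝ) := by
    apply Complex.ofReal_injective
    rw [Complex.ofReal_sum, Finset.sum_congr rfl fun x _ => ((hr x).1).symm, htot, Complex.ofReal_natCast]
  have hidx : (n : ℝ) * 34 ≤ 35 * (((4 * (nrm R).index : ℕ) : ℝ) + ((12 * (nrm P).index : ℕ) : ℝ)) := by
    have : n * 34 ≤ 35 * (4 * (nrm R).index + 12 * (nrm P).index) := by
      rcases hcases with h | h <;> rw [h] at hnrm <;> omega
    exact_mod_cast this
  have hn' : (n : ℝ) = 9 * ((35 * 2 ^ a : ℕ) : ℝ) := by rw [hn]; push_cast; ring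
  have hk9 : 9 ≤ k := by
    by_contra hlt
    have h8 : (k : ℝ) ≤ 8 := by exact_mod_cast (show k ≤ 8 by omega)
    have hpos : (0 : ℝ) ≤ ((35 * 2 ^ a : ℕ) : ℝ) := Nat.cast_nonneg _
    nlinarith
  -- an element of order three
  have h3 : 3 ∣ Nat.card G := ⟨2 ^ a * 105 * z, by rw [hG, hn]; ring⟩
  obtain ⟨g, hg⟩ := exists_prime_orderOf_dvd_card' 3 h3
  have hgo : orderOf (g : G ⧸ Subgroup.center G) = 3 := by
    refine orderOf_eq_prime (by rw [← QuotientGroup.mk_pow, ← hg, pow_orderOf_eq_one, QuotientGroup.mk_one]) fun h => ?_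
    have h1 := orderOf_dvd_of_pow_eq_one (S.zpow g ((QuotientGroup.eq_one_iff g).1 h))
    rw [hg] at h1
    norm_num at h1
  have hpos : 0 < r (g : G ⧸ Subgroup.center G) := by
    simp only [r, hval, Complex.mul_conj', ← Complex.ofReal_pow, Complex.ofReal_re]
    have := norm_pos_iff.2 (S.three_ne_zero' hg)
    positivity
  have hlt : ∑ x ∈ T3, r x < ∑ x, r x := Finset.sum_lt_sum_of_subset (Finset.filter_subset _ _)
    (Finset.mem_univ (g : G ⧸ Subgroup.center G)) (fun h => (Finset.mem_filter.1 h).2 (by rw [hgo])) hpos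
    fun x _ _ => (hr x).2
  rw [hall, hk', hn'] at hlt
  have h9 : (9 : ℝ) ≤ k := by exact_mod_cast hk9
  have hpos' : (0 : ℝ) ≤ ((35 * 2 ^ a : ℕ) : ℝ) := Nat.cast_nonneg _
  nlinarith

end Small

/-- Degree four at seven. -/
theorem deg_four (S : Small D ζ θ c 4 3) :
    Nonempty (G ⧸ Subgroup.center G ≃* Matrix.ProjectiveSpecialLinearGroup (Fin 2) (ZMod 7)) ∨
      Nonempty (G ⧸ Subgroup.center G ≃* ↥(alternatingGroup (Fin 7))) := by
  haveI := S.simple
  haveI : Fact (Nat.Prime 5) := ⟨by norm_num⟩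
  set n := Nat.card (G ⧸ Subgroup.center G) with hn
  obtain ⟨k, hk⟩ := S.card_quotient
  rw [← hn] at hk
  have h14 : ∀ g : G, ¬ 7 ∣ orderOf g → ∀ m : ℕ, (ζ : G → ℂ) g * conj ((ζ : G → ℂ) g) = m → m < 4 * 4 →
      m ∈ (Finset.range 16).erase 14 := by
    intro g hg m hm hlt
    refine Finset.mem_erase.2 ⟨fun h => ?_, Finset.mem_range.2 hlt⟩
    obtain ⟨u, w, huw⟩ := exists_int_coords (IsCharacter.isIntegral (isCharacter_irr ζ) g) fun σ hσ =>
      S.fixed hg σ fun r hr => by
        have h4 : (r - 1) * (r + 1) * (r - Complex.I) * (r + Complex.I) = 0 := by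
          linear_combination hr - (r ^ 2 - 1) * Complex.I_sq
        simp only [mul_eq_zero, sub_eq_zero, add_eq_zero_iff_eq_neg] at h4
        rcases h4 with ((rfl | rfl) | rfl) | rfl <;> simp [hσ]
    rw [hm, h] at huw
    have h1 : u ^ 2 + w ^ 2 = 56 := by
      have : ((u ^ 2 + w ^ 2 : ℤ) : ℂ) = ((56 : ℤ) : ℂ) := by push_cast; rw [← huw]; norm_num
      exact_mod_cast this
    have hu : u.natAbs < 9 := by
      by_contra hc
      have : (81 : ℤ) ≤ u ^ 2 := by rw [← Int.natAbs_sq]; exact_mod_cast Nat.pow_le_pow_left (not_lt.1 hc) 2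
      have := sq_nonneg w
      omega
    have hw : w.natAbs < 9 := by
      by_contra hc
      have : (81 : ℤ) ≤ w ^ 2 := by rw [← Int.natAbs_sq]; exact_mod_cast Nat.pow_le_pow_left (not_lt.1 hc) 2
      have := sq_nonneg u
      omega
    refine not_sum_two_sq_aux _ hu _ hw ?_
    zify
    rw [← sq, ← sq, sq_abs, sq_abs, h1]
  have hdvd : n ∣ 2 ^ 14 * 3 ^ 2 * 5 * 7 := by
    refine dvd_of_primes (by rw [hn]; exact Nat.card_pos.ne') (by norm_num) fun q hq a ha => ?_
    rcases Nat.eq_zero_or_pos a with h0 | h0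
    · simp [h0]
    have hqn : q ∣ n := (dvd_pow_self q h0.ne').trans ha
    by_cases hq7 : q = 7
    · subst hq7
      have ha1 : a ≤ 1 := by
        by_contra h
        exact D.hp2 (((pow_dvd_pow 7 (by omega : 2 ≤ a)).trans ha).trans (Subgroup.card_quotient_dvd_card _))
      interval_cases a; norm_num
    by_cases hq2 : q = 2
    · subst hq2
      have h := S.pow_dvd_prod_sq hq (by norm_num) ((Finset.range 16).erase 14) h14 ha
      rw [show ∏ v ∈ ((Finset.range 16).erase 14).image (fun m : ℕ => (m : ℤ)), (((4 * 4 : ℕ) : ℤ) - v)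
        = ((2 ^ 14 * 638512875 : ℕ) : ℤ) by decide] at h
      exact (pow_dvd_of_int hq (by norm_num) h).trans ⟨315, by norm_num⟩
    by_cases hq3 : q = 3
    · subst hq3
      have h := S.pow_dvd_prod_int hq (by norm_num) (by norm_num) ha
      rw [show ∏ v ∈ Finset.Ioo (-((4 : ℕ) : ℤ)) (4 : ℕ), (((4 : ℕ) : ℤ) - v) = ((9 * 560 : ℕ) : ℤ) by decide] at h
      exact (pow_dvd_of_int hq (by norm_num) h).trans ⟨2 ^ 14 * 35, by norm_num⟩
    by_cases hq5 : q = 5
    · subst hq5
      have h := S.pow_dvd_prod_int hq (by norm_num) (by norm_num) ha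
      rw [show ∏ v ∈ Finset.Ioo (-((4 : ℕ) : ℤ)) (4 : ℕ), (((4 : ℕ) : ℤ) - v) = ((5 * 1008 : ℕ) : ℤ) by decide] at h
      exact (pow_dvd_of_int hq (by norm_num) h).trans ⟨2 ^ 14 * 63, by norm_num⟩
    exfalso
    have hq9 : 9 < q := by
      have := hq.two_le
      have h4 : q ≠ 4 := fun h => absurd (h ▸ hq) (by norm_num)
      have h6 : q ≠ 6 := fun h => absurd (h ▸ hq) (by norm_num)
      have h8 : q ≠ 8 := fun h => absurd (h ▸ hq) (by norm_num)
      have h9 : q ≠ 9 := fun h => absurd (h ▸ hq) (by norm_num)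
      omega
    exact S.not_dvd_of_large hq hq7 (by omega) hqn
  obtain ⟨x1, x2, hx1, hx2, hx⟩ := exists_dvd_and_dvd_of_dvd_mul hdvd
  obtain ⟨y1, y2, hy1, hy2, hy⟩ := exists_dvd_and_dvd_of_dvd_mul hx1
  obtain ⟨z1, z2, hz1, hz2, hz⟩ := exists_dvd_and_dvd_of_dvd_mul hy1
  obtain ⟨a, ha, rfl⟩ := (Nat.dvd_prime_pow Nat.prime_two).1 hz1
  obtain ⟨b, hb, rfl⟩ := (Nat.dvd_prime_pow Nat.prime_three).1 hz2
  obtain ⟨c', hc', rfl⟩ := (Nat.dvd_prime_pow (show Nat.Prime 5 by norm_num)).1 (show y2 ∣ 5 ^ 1 by simpa using hy2)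
  obtain ⟨f, hf, rfl⟩ := (Nat.dvd_prime_pow (show Nat.Prime 7 by norm_num)).1 (show x2 ∣ 7 ^ 1 by simpa using hx2)
  subst hz hy
  have hmod : n % 147 = 21 := by omega
  obtain ⟨rfl, hbc⟩ := candidates_degFour a (by omega) b (by omega) c' (by omega) f (by omega) (by rw [← hx]; exact hmod)
  have hna : ¬ IsMulCommutative (G ⧸ Subgroup.center G) := not_comm_of_not_prime (by
    rw [← hn, hk, mul_assoc]
    exact Nat.not_prime_mul (by norm_num) (by omega))
  have hsmall : n ≠ 21 ∧ n ≠ 315 := by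
    constructor <;> intro h <;>
      rcases Cfsg.Agent.S0496.result hna (by omega) with e | e | e | e | e | e <;> omega
  rcases hbc with ⟨rfl, rfl⟩ | ⟨rfl, rfl, ha'⟩
  · refine Or.inl (psl_of_card (p := 7) (q := 2) (r := 3) (b := a) (Or.inr rfl) Nat.prime_two Nat.prime_three
      (by norm_num) (by norm_num) (by norm_num) (Nat.pos_of_ne_zero fun h => ?_) (by rw [← hn, hx]; ring))
    subst h
    exact hsmall.1 (by rw [hx]; norm_num)
  · rcases ha' with rfl | rfl | ha'
    · exact absurd (by rw [hx]; norm_num) hsmall.2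
    · exact Or.inr (Cfsg.Agent.S0984.result (by rw [← hn, hx]; norm_num))
    · exact (S.false_big ha' (by rw [← hn, hx]; ring)).elim

end CfsgLib.Char.SmallLinear
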