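import Cfsg.Agent.Lib.Char.SmallLinear.Order
import Cfsg.Agent.S0497

/-!
# Degree three at the prime five
-/

set_option autoImplicit false

open scoped Classical ComplexConjugate

namespace CfsgLib.Char.SmallLinear

open Cfsg CfsgLib CfsgLib.Blocks CfsgLib.Blocks.DefectOne

universe u

variable {G : Type u} [Group G] [Fintype G]

theorem divisors_degThree : ∀ n ∈ Nat.divisors 3240, n % 50 = 10 → n = 10 ∨ n = 60 ∨ n = 360 ∨ n = 810 := by
  decide +kernel

/-- Degree three at five. -/
theorem deg_three [Fact (Nat.Prime 5)] {P : Sylow 5 G} {D : Frame P} {ζ : IrrCharacter G}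
    {θ : IrrCharacter D.K0} {c : (ZMod 5)ˣ} (S : Small D ζ θ c 3 2) :
    Nonempty (G ⧸ Subgroup.center G ≃* Matrix.ProjectiveSpecialLinearGroup (Fin 2) (ZMod 5)) ∨
      Nonempty (G ⧸ Subgroup.center G ≃* ↥(alternatingGroup (Fin 6))) := by
  haveI := S.simple
  set n := Nat.card (G ⧸ Subgroup.center G) with hn
  obtain ⟨k, hk⟩ := S.card_quotient
  rw [← hn] at hk
  have h5 : 5 ∣ n := ⟨2 * (1 + 5 * k), by omega⟩
  have h7 : ¬ 7 ∣ n := by
    intro h7
    haveI : Fact (Nat.Prime 7) := ⟨by norm_num⟩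
    obtain ⟨Q⟩ : Nonempty (Sylow 7 G) := inferInstance
    refine FeitDegree.Index.reduce (p := 7) (by norm_num) ζ S.faith (by rw [S.deg]; norm_num) Q
      (S.sylow_not_normal (by norm_num) (by norm_num) h7 Q) fun H _ _ f R ψ _ _ _ hR hRn hf hψd ⟨eG⟩ => ?_
    obtain ⟨eH⟩ := DegHalf.quotient_psl (p := 7) (by norm_num) hRn (isCharacter_irr ψ) hR hf
      (by rw [hψd, S.deg])
    have h1 := Nat.card_congr (eG.trans eH).toEquiv
    have h2 := card_psl (p := 7) (by norm_num)
    omega
  have hdvd : n ∣ 3240 := by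
    refine dvd_of_primes (by rw [hn]; exact Nat.card_pos.ne') (by norm_num) fun q hq a ha => ?_
    rcases Nat.eq_zero_or_pos a with h0 | h0
    · simp [h0]
    have hqn : q ∣ n := (dvd_pow_self q h0.ne').trans ha
    by_cases hq5 : q = 5
    · subst hq5
      have ha1 : a ≤ 1 := by
        by_contra h
        exact D.hp2 (((pow_dvd_pow 5 (by omega : 2 ≤ a)).trans ha).trans (Subgroup.card_quotient_dvd_card _))
      interval_cases a; norm_num
    by_cases hq2 : q = 2
    · subst hq2
      have h := S.pow_dvd_prod_int hq (by norm_num) (by norm_num) ha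
      rw [show ∏ v ∈ Finset.Ioo (-((3 : ℕ) : ℤ)) (3 : ℕ), (((3 : ℕ) : ℤ) - v) = ((8 * 15 : ℕ) : ℤ) by decide] at h
      exact (pow_dvd_of_int hq (by norm_num) h).trans ⟨405, by norm_num⟩
    by_cases hq3 : q = 3
    · subst hq3
      have h := S.pow_dvd_prod_sq hq (by norm_num) (Finset.range 9) (fun g _ m _ hm => Finset.mem_range.2 hm) ha
      rw [show ∏ v ∈ (Finset.range 9).image (fun m : ℕ => (m : ℤ)), (((3 * 3 : ℕ) : ℤ) - v) = ((81 * 4480 : ℕ) : ℤ)
        by decide] at h
      exact (pow_dvd_of_int hq (by norm_num) h).trans ⟨40, by norm_num⟩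
    exfalso
    have hq7 : 7 < q := by
      have := hq.two_le
      have h4 : q ≠ 4 := fun h => absurd (h ▸ hq) (by norm_num)
      have h6 : q ≠ 6 := fun h => absurd (h ▸ hq) (by norm_num)
      have : q ≠ 7 := fun h => h7 (h ▸ hqn)
      omega
    exact S.not_dvd_of_large hq hq5 (by omega) hqn
  have hmem := divisors_degThree n (Nat.mem_divisors.2 ⟨hdvd, by norm_num⟩) (by omega)
  have hna : ¬ IsMulCommutative (G ⧸ Subgroup.center G) := not_comm_of_not_prime (by
    rw [← hn, hk, mul_assoc]
    exact Nat.not_prime_mul (by norm_num) (by omega))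
  rcases hmem with h | h | h | h
  · exfalso
    rcases Cfsg.Agent.S0496.result hna (by omega) with e | e | e | e | e | e <;> omega
  · exact Or.inl (psl_of_card (p := 5) (q := 2) (r := 3) (b := 2) (Or.inl rfl) Nat.prime_two Nat.prime_three
      (by norm_num) (by norm_num) (by norm_num) (by norm_num) (by rw [← hn, h]; norm_num))
  · exact Or.inr (Cfsg.Agent.S0497.result (by rw [← hn, h]))
  · exfalso
    rcases Cfsg.Agent.S0496.result hna (by omega) with e | e | e | e | e | e <;> omega

end CfsgLib.Char.SmallLinear
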