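import Cfsg.Agent.Lib.Char.FeitDegree.Index.Reduce
import Cfsg.Agent.Lib.Classical.SL2Fours
import Cfsg.Agent.Lib.KnownA.PSLMultiplier

/-!
# Lifting `SL(2, 16) × Z` through a central `17`-group
-/

set_option autoImplicit false

open scoped Classical ComplexConjugate commutatorElement
open Matrix

namespace CfsgLib.Char.SmallLinear

open Cfsg CfsgLib CfsgLib.Blocks CfsgLib.Blocks.DefectOne

universe u

variable {G : Type u} [Group G] [Fintype G]

/-- Isomorphic fields give isomorphic special linear groups. -/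
theorem sl_congr {K L : Type*} [Field K] [Field L] (φ : K ≃+* L) :
    Nonempty (Matrix.SpecialLinearGroup (Fin 2) K ≃* Matrix.SpecialLinearGroup (Fin 2) L) :=
  ⟨{ toFun := Matrix.SpecialLinearGroup.map (φ : K →+* L)
     invFun := Matrix.SpecialLinearGroup.map (φ.symm : L →+* K)
     left_inv := fun A => by ext i j; simp
     right_inv := fun A => by ext i j; simp
     map_mul' := map_mul _ }⟩

/-- The lift. -/
theorem exists_lift {p d : ℕ} [hp : Fact p.Prime] (hpd : ¬ p ∣ d) (χ : IrrCharacter G)
    (hfaith : ∀ g : G, (χ : G → ℂ) g = (χ : G → ℂ) 1 → g = 1) (hdeg : charDegree (χ : G → ℂ) = d)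
    {H : Type u} [Group H] (f : G →* H) (hf : Function.Surjective f) (hker : f.ker ≤ Subgroup.center G)
    (hkp : IsPGroup p f.ker) {F : Type} [Field F] [Fintype F] (hF : Fintype.card F = 16)
    (e : H ≃* Matrix.SpecialLinearGroup (Fin 2) F × Subgroup.center H) :
    ∃ (A : Type) (_ : CommGroup A) (_ : Finite A),
      Nonempty (G ≃* Matrix.SpecialLinearGroup (Fin 2) (GaloisField 2 4) × A) := by
  haveI : CharP F 2 := by
    obtain ⟨q, hq⟩ := CharP.exists F
    obtain ⟨n, hqp, hn⟩ := FiniteField.card F q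
    have h2 : q = 2 := by
      have h1 : q ∣ 2 ^ 4 := by
        rw [show (2 : ℕ) ^ 4 = 16 by norm_num, ← hF, hn]
        exact dvd_pow_self q n.pos.ne'
      exact (Nat.prime_dvd_prime_iff_eq hqp Nat.prime_two).1 (hqp.dvd_of_dvd_pow h1)
    exact h2 ▸ hq
  have hS : commutator (SpecialLinearGroup (Fin 2) F) = ⊤ :=
    CfsgLib.KnownA.PSLMultiplier.sl_two_perfect (by omega)
  have hSZ : ∀ s : SpecialLinearGroup (Fin 2) F, s ∈ Subgroup.center _ → s = 1 := fun s hs => by
    rcases CfsgLib.Classical.sl2_center_eq hs with h | h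
    · exact h
    · rw [h]
      exact Subtype.ext (by ext i j; fin_cases i <;> fin_cases j <;> simp [CharTwo.neg_eq])
  set N := commutator G
  have hZ : ∀ z ∈ N, z ∈ f.ker → z = 1 := by
    intro z hzN hzk
    have hhom : ∀ l : G →* ℂˣ, l z = 1 := fun l =>
      MonoidHom.mem_ker.1 (Abelianization.commutator_subset_ker l hzN)
    obtain ⟨k, hk⟩ := hkp ⟨z, hzk⟩
    have hk' : z ^ p ^ k = 1 := congrArg Subtype.val hk
    have hzd : z ^ d = 1 := by
      refine hfaith _ ?_
      obtain ⟨n, ρ, hirr, hρ⟩ := χ.2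
      obtain ⟨ω, hω⟩ := exists_eq_smul_of_commute ρ (ρ z) fun g => by
        rw [← Module.End.mul_eq_comp, ← Module.End.mul_eq_comp, ← map_mul, ← map_mul,
          Subgroup.mem_center_iff.mp (hker hzk) g]
      have hn : n = d := by
        rw [← hdeg, ← hρ, charDegree, Representation.char_one, Module.finrank_fin_fun, Complex.natCast_re,
          Nat.floor_natCast]
      have hωd : ω ^ d = 1 := by
        have h1 := congrArg Units.val (hhom (CharDeep.DetExt.detHom ρ))
        rw [CharDeep.DetExt.coe_detHom, hω, LinearMap.det_smul, LinearMap.det_id, mul_one, Module.finrank_fin_fun,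
          Units.val_one, hn] at h1
        exact h1
      rw [← hρ]
      simp only [Representation.character, map_pow, hω, smul_pow, hωd, one_smul, map_one]
      rw [← Module.End.one_eq_id, one_pow]
    have h4 := pow_gcd_eq_one.2 ⟨hk', hzd⟩
    rwa [((hp.out.coprime_iff_not_dvd.2 hpd).pow_left k).gcd_eq_one, pow_one] at h4
  set π : G →* Matrix.SpecialLinearGroup (Fin 2) F := (MonoidHom.fst _ _).comp (e.toMonoidHom.comp f) with hπ
  set τ : G →* Subgroup.center H := (MonoidHom.snd _ _).comp (e.toMonoidHom.comp f) with hτdef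
  have hτ : ∀ n ∈ N, τ n = 1 := by
    intro n hn
    refine MonoidHom.mem_ker.1 (?_ : n ∈ τ.ker)
    revert n
    show N ≤ τ.ker
    rw [show N = commutator G from rfl, commutator_def, Subgroup.commutator_le]
    intro a _ b _
    rw [MonoidHom.mem_ker, map_commutatorElement, commutatorElement_eq_one_iff_commute]
    exact Subtype.ext (Subgroup.mem_center_iff.1 (τ b).2 (τ a : H))
  have hπN : ∀ n ∈ N, π n = 1 → n = 1 := by
    intro n hn hπn
    refine hZ n hn ?_
    have h1 : e (f n) = (π n, τ n) := rfl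
    rw [hπn, hτ n hn, Prod.mk_one_one, ← map_one e] at h1
    exact MonoidHom.mem_ker.2 (e.injective h1)
  have hπs : Function.Surjective π := fun s => by
    obtain ⟨g, hg⟩ := hf (e.symm (s, 1))
    exact ⟨g, by show (e (f g)).1 = s; rw [hg, e.apply_symm_apply]⟩
  have hsur : ∀ s : SpecialLinearGroup (Fin 2) F, ∃ n ∈ N, π n = s := fun s => by
    have h1 : N.map π = ⊤ := by
      rw [show N = commutator G from rfl, commutator_def, Subgroup.map_commutator,
        Subgroup.map_top_of_surjective π hπs, ← commutator_def, hS]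
    obtain ⟨n, hn, he⟩ := (h1.symm ▸ Subgroup.mem_top s : s ∈ N.map π)
    exact ⟨n, hn, he⟩
  have hcen : ∀ c : G, π c = 1 → c ∈ Subgroup.center G := fun c hc => Subgroup.mem_center_iff.2 fun g => by
    rw [← commutatorElement_eq_one_iff_mul_comm]
    refine hπN _ (Subgroup.commutator_mem_commutator (Subgroup.mem_top g) (Subgroup.mem_top c)) ?_
    rw [map_commutatorElement, hc, commutatorElement_one_right]
  have hcenN : ∀ c ∈ N, c ∈ Subgroup.center G → c = 1 := fun c hc hcz => hπN c hc (hSZ _
    (Subgroup.mem_center_iff.2 fun s => by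
      obtain ⟨g, rfl⟩ := hπs s
      rw [← map_mul, ← map_mul, Subgroup.mem_center_iff.1 hcz g]))
  let m : N × Subgroup.center G →* G :=
    MonoidHom.noncommCoprod N.subtype (Subgroup.center G).subtype fun a b =>
      Subgroup.mem_center_iff.1 b.2 (a : G)
  have hm : Function.Bijective m := by
    refine ⟨(injective_iff_map_eq_one m).2 fun a ha => ?_, fun g => ?_⟩
    · have h1 : (a.1 : G) * (a.2 : G) = 1 := ha
      have h2 : (a.1 : G) = (a.2 : G)⁻¹ := mul_eq_one_iff_eq_inv.1 h1
      have h3 : (a.1 : G) = 1 := hcenN _ a.1.2 (h2 ▸ inv_mem a.2.2)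
      rw [h3, one_mul] at h1
      exact Prod.ext (Subtype.ext h3) (Subtype.ext h1)
    · obtain ⟨n, hn, he⟩ := hsur (π g)
      exact ⟨(⟨n, hn⟩, ⟨n⁻¹ * g, hcen _ (by rw [map_mul, map_inv, he, inv_mul_cancel])⟩),
        mul_inv_cancel_left n g⟩
  have hbij : Function.Bijective (π.comp N.subtype) := by
    refine ⟨(injective_iff_map_eq_one _).2 fun a ha => Subtype.ext (hπN a a.2 ha), fun s => ?_⟩
    obtain ⟨n, hn, he⟩ := hsur s
    exact ⟨⟨n, hn⟩, he⟩
  letI := Fintype.ofFinite (GaloisField 2 4)
  obtain ⟨eS⟩ := sl_congr (FiniteField.ringEquivOfCardEq (K := F) (K' := GaloisField 2 4) (by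
    rw [hF, ← Nat.card_eq_fintype_card, GaloisField.card 2 4 (by norm_num)]; norm_num))
  letI : CommGroup (Subgroup.center G) :=
    { (inferInstance : Group (Subgroup.center G)) with
      mul_comm := fun a b => Subtype.ext (Subgroup.mem_center_iff.1 b.2 (a : G)) }
  letI := Fintype.ofFinite (Subgroup.center G)
  let ε : { _i : Fin (Fintype.card (Subgroup.center G)) // True } ≃ Subgroup.center G :=
    (Equiv.subtypeUnivEquiv fun _ => trivial).trans (Fintype.equivFin _).symm
  letI hA : CommGroup { _i : Fin (Fintype.card (Subgroup.center G)) // True } := ε.commGroup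
  exact ⟨{ _i : Fin (Fintype.card (Subgroup.center G)) // True }, hA, inferInstance,
    ⟨(MulEquiv.ofBijective m hm).symm.trans (MulEquiv.prodCongr ((MulEquiv.ofBijective _ hbij).trans eS)
      (Equiv.mulEquiv ε).symm)⟩⟩

end CfsgLib.Char.SmallLinear
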