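import Cfsg.Agent.Lib.Char.SmallLinear.Reduce
import Cfsg.Agent.Lib.Char.SmallLinear.Lift
import Cfsg.Agent.Lib.Char.DegPMinusTwo.Main

/-!
# Linear groups of degree below `27` and a prime above the degree plus one
-/

set_option autoImplicit false

open scoped Classical ComplexConjugate

namespace CfsgLib.Char.SmallLinear

open Cfsg CfsgLib CfsgLib.Blocks CfsgLib.Blocks.DefectOne
open FeitDegree

universe u

variable {G : Type u} [Group G] [Fintype G] {p : ℕ} [hp : Fact p.Prime]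

/-- No degree twenty-five at twenty-nine with four classes moved. -/
theorem false_twentynine (hp29 : p = 29) {P : Sylow p G} (hP : Nat.card P = p)
    (hnn : ¬ (P : Subgroup G).Normal) (ζ : IrrCharacter G)
    (hfaith : ∀ g : G, (ζ : G → ℂ) g = (ζ : G → ℂ) 1 → g = 1) (hdeg : charDegree (ζ : G → ℂ) = 25) : False := by
  haveI h2 : Fact (Nat.Prime 2) := ⟨Nat.prime_two⟩
  obtain ⟨-, ψ, -, hnorm, hψd, hKZ, hKp, hPK⟩ := Index.exists_twist_hom (p := 2) ζ hfaith (by rw [hdeg]; norm_num)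
  haveI := charKer_normal (isCharacter_irr ψ)
  obtain ⟨ψ', hψ', hf', hd'⟩ := Index.exists_image ψ
  set K := charKer (isCharacter_irr ψ)
  set f := QuotientGroup.mk' K
  letI := Fintype.ofFinite (G ⧸ K)
  have hfs : Function.Surjective f := QuotientGroup.mk'_surjective K
  set Q := P.mapSurjective hfs
  have hd25 : charDegree (ψ' : G ⧸ K → ℂ) = 25 := by rw [hd', hψd, hdeg]
  have hpK : ¬ p ∣ Nat.card K := fun h => by
    obtain ⟨k, hk⟩ := IsPGroup.iff_card.1 hKp
    rw [hk] at h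
    have := (Nat.prime_dvd_prime_iff_eq hp.out Nat.prime_two).1 (hp.out.dvd_of_dvd_pow h)
    omega
  have hQn : ¬ (Q : Subgroup (G ⧸ K)).Normal := fun h => by
    refine hnn (Index.normal_of_kernel (isCharacter_irr ζ) hfaith (by omega) P K hpK ?_)
    have h2 := h.comap f
    rwa [show (Q : Subgroup (G ⧸ K)) = (P : Subgroup G).map f from rfl, Subgroup.comap_map_eq, QuotientGroup.ker_mk',
      sup_comm] at h2
  have hQ : Nat.card Q = p := by
    have h1 : Nat.card ((P : Subgroup G).map f) ∣ p := (Subgroup.card_map_dvd _ _).trans (dvd_of_eq hP)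
    rcases (Nat.dvd_prime hp.out).1 h1 with h | h
    · refine absurd ?_ hQn
      rw [show (Q : Subgroup (G ⧸ K)) = (P : Subgroup G).map f from rfl, Subgroup.eq_bot_of_card_eq _ h]
      infer_instance
    · exact h
  have hodd : Odd (Nat.card (Subgroup.center (G ⧸ K))) := by
    rw [← Nat.not_even_iff_odd, even_iff_two_dvd]
    intro hdvd
    obtain ⟨⟨y, hy⟩, hyo⟩ := exists_prime_orderOf_dvd_card' 2 hdvd
    rw [Subgroup.orderOf_mk] at hyo
    obtain ⟨x, rfl⟩ := hfs y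
    have hxZ : x ∈ Subgroup.center G := by
      refine DegreeTools.mem_center_of_norm_eq ζ hfaith x ?_
      obtain ⟨ω, hω, hmul⟩ := DegreeBound.apply_central_mul ψ'.2 hy
      have h1 := hmul 1
      rw [mul_one] at h1
      rw [← hnorm, hψ', Function.comp_apply, h1, norm_mul, hω, one_mul, DegreeTools.norm_apply_one, hd25, hdeg]
    obtain ⟨k, hk⟩ := IsPGroup.iff_card.1 hKp
    have hx2 : x ^ 2 ∈ K := by
      rw [← QuotientGroup.eq_one_iff]
      show f (x ^ 2) = 1
      rw [map_pow, ← hyo, pow_orderOf_eq_one]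
    have hxp : IsPGroup 2 (Subgroup.zpowers x) := by
      have h1 : x ^ 2 ^ (k + 1) = 1 := by
        rw [pow_succ', pow_mul, ← hk]
        exact congrArg Subtype.val (pow_card_eq_one' (x := (⟨x ^ 2, hx2⟩ : K)))
      obtain ⟨i, -, hi⟩ := (Nat.dvd_prime_pow Nat.prime_two).1 (orderOf_dvd_of_pow_eq_one h1)
      exact IsPGroup.of_card (n := i) (by rw [Nat.card_zpowers, hi])
    obtain ⟨S, hS⟩ := hxp.exists_le_sylow
    have hxK : x ∈ K := hPK S ⟨hS (Subgroup.mem_zpowers x), hxZ⟩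
    rw [show f x = 1 from (QuotientGroup.eq_one_iff x).2 hxK, orderOf_one] at hyo
    omega
  rcases Main.shapes (ζ := ψ') (by omega) hQn hf' (by omega) hQ
    (t := Nat.card {c : ConjClasses (G ⧸ K) // ∃ g, ConjClasses.mk g = c ∧ orderOf g = p}) rfl with
    ⟨-, hor, -⟩ | ⟨e, hde, -, -, hcase⟩
  · omega
  · rcases hcase with h | ⟨-, -, h⟩
    · omega
    · exact h hodd

/-- The conclusion of the classification. -/
def Conclusion (G : Type u) [Group G] (p d : ℕ) : Prop :=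
  (Nonempty (G ⧸ Subgroup.center G ≃* Matrix.ProjectiveSpecialLinearGroup (Fin 2) (ZMod p)) ∧
    (2 * d = p + 1 ∨ 2 * d = p - 1)) ∨
  (p = 17 ∧ d = 15 ∧ ∃ (A : Type) (_ : CommGroup A) (_ : Finite A),
    Nonempty (G ≃* Matrix.SpecialLinearGroup (Fin 2) (GaloisField 2 4) × A)) ∨
  (p = 7 ∧ d = 4 ∧ Nonempty (G ⧸ Subgroup.center G ≃* ↥(alternatingGroup (Fin 7)))) ∨
  (p = 5 ∧ d = 3 ∧ Nonempty (G ⧸ Subgroup.center G ≃* ↥(alternatingGroup (Fin 6))))

theorem transfer_seven {H : Type u} [Group H] [Fintype H] [Fact (Nat.Prime 7)] {Q : Sylow 7 H}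
    (hQ : Nat.card Q = 7) (hQn : ¬ (Q : Subgroup H).Normal) (ζ : IrrCharacter H)
    (hfaith : ∀ g : H, (ζ : H → ℂ) g = (ζ : H → ℂ) 1 → g = 1) (hdeg : charDegree (ζ : H → ℂ) = 4) :
    Nonempty (H ⧸ Subgroup.center H ≃* Matrix.ProjectiveSpecialLinearGroup (Fin 2) (ZMod 7)) ∨
      Nonempty (H ⧸ Subgroup.center H ≃* ↥(alternatingGroup (Fin 7))) := by
  refine exists_small (p := 7) (by norm_num) le_rfl hQ hQn ζ hfaith hdeg (Or.inr rfl) (e := 3) (by norm_num)
    Nat.prime_three fun K _ _ R D φ θ c S ⟨eK⟩ => ?_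
  rcases deg_four S with h | h
  · obtain ⟨e⟩ := h
    exact Or.inl ⟨eK.trans e⟩
  · obtain ⟨e⟩ := h
    exact Or.inr ⟨eK.trans e⟩

theorem transfer_five {H : Type u} [Group H] [Fintype H] [Fact (Nat.Prime 5)] {Q : Sylow 5 H}
    (hQ : Nat.card Q = 5) (hQn : ¬ (Q : Subgroup H).Normal) (ζ : IrrCharacter H)
    (hfaith : ∀ g : H, (ζ : H → ℂ) g = (ζ : H → ℂ) 1 → g = 1) (hdeg : charDegree (ζ : H → ℂ) = 3) :
    Nonempty (H ⧸ Subgroup.center H ≃* Matrix.ProjectiveSpecialLinearGroup (Fin 2) (ZMod 5)) ∨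
      Nonempty (H ⧸ Subgroup.center H ≃* ↥(alternatingGroup (Fin 6))) := by
  refine exists_small (p := 5) le_rfl (by norm_num) hQ hQn ζ hfaith hdeg (Or.inl rfl) (e := 2) (by norm_num)
    Nat.prime_two fun K _ _ R D φ θ c S ⟨eK⟩ => ?_
  rcases deg_three S with h | h
  · obtain ⟨e⟩ := h
    exact Or.inl ⟨eK.trans e⟩
  · obtain ⟨e⟩ := h
    exact Or.inr ⟨eK.trans e⟩

/-- Feit's list below degree `27`. -/
theorem main (χ : IrrCharacter G) (hfaith : ∀ g : G, (χ : G → ℂ) g = (χ : G → ℂ) 1 → g = 1) {d : ℕ}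
    (hdeg : charDegree (χ : G → ℂ) = d) (hd : d < 27) (hdp : d + 1 < p) (P : Sylow p G) :
    (P : Subgroup G).Normal ∨ Conclusion G p d := by
  by_cases hnn : (P : Subgroup G).Normal
  · exact Or.inl hnn
  right
  have hd0 : 0 < d := hdeg ▸ DegreeTools.deg_pos χ
  have hd1 : d ≠ 1 := fun h => hnn ⟨fun v hv g => by
    rwa [DegHalf.comm_of_deg_one (isCharacter_irr χ) hfaith (by rw [irr_one_eq, hdeg, h, Nat.cast_one]) g v,
      mul_inv_cancel_right]⟩
  have hp5 : 5 ≤ p := by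
    by_contra h
    have h4 : p = 4 := by omega
    exact absurd (h4 ▸ hp.out) (by norm_num)
  refine Index.reduce (p := p) hp5 χ hfaith (by omega) P hnn
    fun H _ _ f Q ψ hfs hfker hfkp hQ hQn hψf hψd ⟨eG⟩ => ?_
  rw [hdeg] at hψd
  by_cases hsmall : 2 * d + 1 < p
  · exact absurd (Index.normal_of_small (isCharacter_irr ψ) hψf (by rw [hψd]; exact hsmall) Q) hQn
  by_cases hhalf : 2 * d + 1 = p
  · obtain ⟨e⟩ := DegHalf.quotient_psl hp5 hQn (isCharacter_irr ψ) hQ hψf (by rw [hψd]; exact hhalf)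
    exact Or.inl ⟨⟨eG.trans e⟩, Or.inr (by omega)⟩
  have hprimes : p = 5 ∨ p = 7 ∨ 7 < p := by
    rcases (show p = 5 ∨ p = 6 ∨ p = 7 ∨ 7 < p by omega) with h | h | h | h
    · exact Or.inl h
    · exact absurd (h ▸ hp.out) (by norm_num)
    · exact Or.inr (Or.inl h)
    · exact Or.inr (Or.inr h)
  have hclass : 5 < p → d + 2 = p → Conclusion G p d := by
    intro hp6 hd2
    obtain ⟨a, F, _, _, hpa, hF, ⟨e⟩⟩ := DegPMinusTwo.classification hp6 Q hQ hQn _ ψ.2 hψf
      (show charDegree (ψ : H → ℂ) = p - 2 by omega)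
    have ha5 : a < 5 := by
      by_contra h
      have : 2 ^ 5 ≤ 2 ^ a := Nat.pow_le_pow_right (by norm_num) (not_lt.1 h)
      omega
    have ha4 : a = 4 := by
      have hpp := hp.out
      interval_cases a <;> first | rfl | omega | (exfalso; rw [hpa] at hpp; norm_num at hpp)
    subst ha4
    refine Or.inr (Or.inl ⟨by omega, by omega, ?_⟩)
    exact exists_lift (p := p) (fun h => by have := Nat.le_of_dvd hd0 h; omega) χ hfaith hdeg f hfs hfker hfkp
      (hF.trans (by norm_num)) e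
  rcases hprimes with h5 | h7 | hp8
  · subst h5
    obtain rfl : d = 3 := by omega
    rcases transfer_five hQ hQn ψ hψf hψd with h | h
    · obtain ⟨e⟩ := h
      exact Or.inl ⟨⟨eG.trans e⟩, Or.inl rfl⟩
    · obtain ⟨e⟩ := h
      exact Or.inr (Or.inr (Or.inr ⟨rfl, rfl, ⟨eG.trans e⟩⟩))
  · subst h7
    rcases (show d = 4 ∨ d = 5 by omega) with rfl | rfl
    · rcases transfer_seven hQ hQn ψ hψf hψd with h | h
      · obtain ⟨e⟩ := h
        exact Or.inl ⟨⟨eG.trans e⟩, Or.inl rfl⟩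
      · obtain ⟨e⟩ := h
        exact Or.inr (Or.inr (Or.inl ⟨rfl, rfl, ⟨eG.trans e⟩⟩))
    · exact hclass (by norm_num) rfl
  by_cases hd2 : d + 2 = p
  · exact hclass (by omega) hd2
  rcases Main.shapes (ζ := ψ) hp8 hQn hψf (by rw [hψd]; omega) hQ
    (t := Nat.card {c : ConjClasses H // ∃ g, ConjClasses.mk g = c ∧ orderOf g = p}) rfl with
    ⟨⟨F, _, _, hF, ⟨φ⟩⟩, hor, -⟩ | ⟨e, hde, het, ht3, hcase⟩
  · obtain ⟨e⟩ := Sixteen.psl_congr (FiniteField.ringEquivOfCardEq (K := F) (K' := ZMod p) (by rw [hF, ZMod.card]))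
    exact Or.inl ⟨⟨eG.trans (φ.trans e)⟩, by rw [hψd] at hor; exact hor⟩
  exfalso
  rw [hψd] at hde
  rcases hcase with h | ⟨he3, het3, -⟩
  · omega
  set t := Nat.card {c : ConjClasses H // ∃ g, ConjClasses.mk g = c ∧ orderOf g = p}
  have h1 : e * (e + 3) ≤ e * t := Nat.mul_le_mul_left _ het3
  have he4 : e ≤ 4 := by
    by_contra h
    have h2 : 5 * (e + 3) ≤ e * (e + 3) := Nat.mul_le_mul_right _ (by omega)
    omega
  interval_cases e
  · have hpp := hp.out
    have h19 : p = 19 := by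
      have : p ≤ 29 := by omega
      interval_cases p <;> first | rfl | omega | (exfalso; norm_num at hpp)
    exact Sixteen.false_nineteen h19 hQ hQn ψ hψf (by omega)
  · have hpp := hp.out
    have h29 : p = 29 := by
      have : p ≤ 30 := by omega
      interval_cases p <;> first | rfl | omega | (exfalso; norm_num at hpp)
    exact false_twentynine h29 hQ hQn ψ hψf (by omega)

end CfsgLib.Char.SmallLinear
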