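import Cfsg.Agent.Lib.Blocks.RegularSum
import Cfsg.Agent.Lib.DegreeTools.FeitFour.Tools
import Cfsg.Agent.Lib.DegreeTools.Rationality

/-!
# Integral values, the product bound and sums over regular elements
-/

set_option autoImplicit false

open scoped Classical ComplexConjugate

namespace CfsgLib.Char.SmallLinear

open Cfsg CfsgLib CfsgLib.Blocks

universe u

variable {G : Type u} [Group G] [Fintype G]

/-- A faithful character with values in `L` off the identity bounds the order by `∏ (χ 1 - l)`. -/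
theorem card_dvd_prod {χ : G → ℂ} (hχ : Cfsg.IsCharacter G χ) {d : ℕ} (hd : χ 1 = (d : ℂ)) (L : Finset ℤ)
    (hL : ∀ g : G, g ≠ 1 → ∃ v ∈ L, χ g = (v : ℂ)) : (Nat.card G : ℤ) ∣ ∏ v ∈ L, ((d : ℤ) - v) := by
  have key : ∀ L : Finset ℤ, ∀ η : G → ℂ, Cfsg.IsCharacter G η →
      ∃ n : ℤ, ∑ g, η g * ∏ v ∈ L, (χ g - (v : ℂ)) = ((Nat.card G : ℤ) * n : ℤ) := by
    intro L
    induction L using Finset.induction_on with
    | empty =>
      intro η hη
      obtain ⟨k, hk⟩ := IsCharacter.classInner_nat hη isCharacter_one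
      refine ⟨k, ?_⟩
      rw [classInner_fun_one_right, inv_mul_eq_iff_eq_mul₀ card_ne_zero] at hk
      simp only [Finset.prod_empty, mul_one, hk]
      push_cast
      ring
    | insert v L hv ih =>
      intro η hη
      obtain ⟨a, ha⟩ := ih (η * χ) (IsCharacter.mul hη hχ)
      obtain ⟨b, hb⟩ := ih η hη
      refine ⟨a - v * b, ?_⟩
      simp only [Finset.prod_insert hv]
      rw [Finset.sum_congr rfl (g := fun g => (η * χ) g * ∏ w ∈ L, (χ g - (w : ℂ))
        - (v : ℂ) * (η g * ∏ w ∈ L, (χ g - (w : ℂ)))) fun g _ => by rw [Pi.mul_apply]; ring,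
        Finset.sum_sub_distrib, ← Finset.mul_sum, ha, hb]
      push_cast
      ring
  obtain ⟨n, hn⟩ := key L (fun _ => 1) isCharacter_one
  simp only [one_mul] at hn
  rw [Finset.sum_eq_single (1 : G) (fun g _ hg => ?_) (fun h => absurd (Finset.mem_univ _) h), hd] at hn
  · exact ⟨n, by exact_mod_cast hn⟩
  · obtain ⟨v, hv, e⟩ := hL g hg
    exact Finset.prod_eq_zero hv (by rw [e, sub_self])

/-- The sum over the `q`-regular elements is divisible by the `q'`-part of the order. -/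
theorem sum_regular_dvd {χ : G → ℂ} (hχ : Cfsg.IsCharacter G χ) (q : ℕ) [Fact q.Prime] :
    ∃ n : ℤ, (∑ g : G with ¬ q ∣ orderOf g, χ g)
      = ((Nat.card G / q ^ (Nat.card G).factorization q : ℕ) : ℂ) * (n : ℂ) := by
  obtain ⟨k, ρ, rfl⟩ := hχ
  exact ordCompl_dvd_sum_regular ρ

/-- An eigenvalue sum fixed by the automorphisms fixing roots of a coprime order is rational. -/
theorem exists_int_of_roots (χ : IrrCharacter G) {g : G} {n : ℕ} (hn : n ≠ 0) (hcop : n.Coprime (orderOf g))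
    (hfix : ∀ σ : ℂ ≃+* ℂ, (∀ r : ℂ, r ^ n = 1 → σ r = r) → σ ((χ : G → ℂ) g) = (χ : G → ℂ) g) :
    ∃ z : ℤ, (χ : G → ℂ) g = z := by
  refine DegreeTools.Rationality.exists_int_of_fixed (IsCharacter.isIntegral (isCharacter_irr χ) g) fun σ => ?_
  set m := orderOf g
  have hm : m ≠ 0 := (orderOf_pos g).ne'
  haveI : NeZero m := ⟨hm⟩
  have hω := Complex.isPrimitiveRoot_exp m hm
  obtain ⟨k, -, hkm, hk⟩ := (IsPrimitiveRoot.isPrimitiveRoot_iff hω).1 (hω.map_of_injective σ.injective)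
  obtain ⟨j, hj1, hj2⟩ := Nat.chineseRemainder hcop.symm k 1
  have hjn : j.Coprime (m * n) := by
    refine Nat.Coprime.mul_right ?_ ?_
    · rw [Nat.coprime_iff_gcd_eq_one] at hkm ⊢
      rwa [hj1.gcd_eq]
    · rw [Nat.coprime_iff_gcd_eq_one, hj2.gcd_eq, Nat.gcd_one_left]
  obtain ⟨τ, hτ⟩ := DegreeTools.FeitFour.exists_sigma (Nat.mul_ne_zero hm hn) hjn
  have hfixn : ∀ r : ℂ, r ^ n = 1 → τ r = r := fun r hr => by
    rw [hτ r (by rw [mul_comm, pow_mul, hr, one_pow]), pow_eq_pow_mod j hr, hj2, ← pow_eq_pow_mod 1 hr, pow_one]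
  have hroot : ∀ r : ℂ, r ^ m = 1 → σ r = τ r := fun r hr => by
    obtain ⟨i, -, rfl⟩ := hω.eq_pow_of_pow_eq_one hr
    rw [map_pow, map_pow, ← hk, hτ _ (by rw [pow_mul, hω.pow_eq_one, one_pow]),
      pow_eq_pow_mod j hω.pow_eq_one, hj1, ← pow_eq_pow_mod k hω.pow_eq_one]
  obtain ⟨d, ρ, -, hρ⟩ := χ.2
  obtain ⟨μ, hμ, hμk⟩ := exists_eigenvalues ρ g
  have h1 := hμk 1
  rw [pow_one] at h1
  conv_rhs => rw [← hfix τ hfixn, ← hρ, h1, map_sum]
  rw [← hρ, h1, map_sum]
  exact Finset.sum_congr rfl fun i _ => hroot _ (by rw [pow_one]; exact hμ i)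

/-- An automorphism moving a quadratic root to its conjugate conjugates the fixed values. -/
theorem swap_of_quad {ω z : ℂ} (hfix : ∀ σ : ℂ ≃+* ℂ, σ ω = ω → σ z = z ∧ σ (conj z) = conj z)
    {σ : ℂ ≃+* ℂ} (hσ : σ ω = conj ω) : σ z = conj z ∧ σ (conj z) = z := by
  let κ : ℂ ≃+* ℂ := Complex.conjAe.toRingEquiv
  obtain ⟨h1, h2⟩ := hfix (σ.trans κ) (show conj (σ ω) = ω by rw [hσ, Complex.conj_conj])
  constructor
  · have h := congrArg conj (show conj (σ z) = z from h1)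
    rwa [Complex.conj_conj] at h
  · have h := congrArg conj (show conj (σ (conj z)) = conj z from h2)
    rwa [Complex.conj_conj, Complex.conj_conj] at h

/-- The norm of a value in an imaginary quadratic field is rational. -/
theorem exists_int_normSq {ω z : ℂ} (hz : IsIntegral ℤ z) (hω : ∀ σ : ℂ ≃+* ℂ, σ ω = ω ∨ σ ω = conj ω)
    (hfix : ∀ σ : ℂ ≃+* ℂ, σ ω = ω → σ z = z ∧ σ (conj z) = conj z) : ∃ n : ℤ, z * conj z = n := by
  refine DegreeTools.Rationality.exists_int_of_fixed (hz.mul (hz.map (starRingEnd ℂ).toIntAlgHom)) fun σ => ?_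
  rcases hω σ with h | h
  · obtain ⟨h1, h2⟩ := hfix σ h
    rw [map_mul, h1, h2]
  · obtain ⟨h1, h2⟩ := swap_of_quad hfix h
    rw [map_mul, h1, h2, mul_comm]

/-- Twice the coordinates of a value in `ℚ(i)` are rational. -/
theorem exists_int_coords {z : ℂ} (hz : IsIntegral ℤ z)
    (hfix : ∀ σ : ℂ ≃+* ℂ, σ Complex.I = Complex.I → σ z = z ∧ σ (conj z) = conj z) :
    ∃ u w : ℤ, 4 * (z * conj z) = (u : ℂ) ^ 2 + (w : ℂ) ^ 2 := by
  have hI : IsIntegral ℤ Complex.I := ⟨Polynomial.X ^ 2 + 1, Polynomial.monic_X_pow_add_C (1 : ℤ) two_ne_zero, by simp⟩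
  have hcz : IsIntegral ℤ (conj z) := hz.map (starRingEnd ℂ).toIntAlgHom
  have hω : ∀ σ : ℂ ≃+* ℂ, σ Complex.I = Complex.I ∨ σ Complex.I = conj Complex.I := fun σ => by
    rw [Complex.conj_I]
    exact eq_or_eq_neg_of_sq_eq_sq _ _ (by rw [← map_pow, Complex.I_sq, map_neg, map_one])
  obtain ⟨u, hu⟩ := DegreeTools.Rationality.exists_int_of_fixed (hz.add hcz) fun σ => by
    rcases hω σ with h | h
    · obtain ⟨h1, h2⟩ := hfix σ h
      rw [map_add, h1, h2]
    · obtain ⟨h1, h2⟩ := swap_of_quad hfix h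
      rw [map_add, h1, h2, add_comm]
  obtain ⟨w, hw⟩ := DegreeTools.Rationality.exists_int_of_fixed (hI.mul (hz.sub hcz)) fun σ => by
    rcases hω σ with h | h
    · obtain ⟨h1, h2⟩ := hfix σ h
      rw [map_mul, map_sub, h, h1, h2]
    · obtain ⟨h1, h2⟩ := swap_of_quad hfix h
      rw [map_mul, map_sub, h, h1, h2, Complex.conj_I]
      ring
  refine ⟨u, w, ?_⟩
  rw [← hu, ← hw]
  linear_combination (-(z - conj z) ^ 2) * Complex.I_sq

end CfsgLib.Char.SmallLinear
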