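import Cfsg.Agent.Lib.Char.FeitDegree.Index.Minimal
import Cfsg.Agent.Lib.Char.SmallLinear.Agree
import Cfsg.Agent.Lib.Char.SmallLinear.SylowBound

/-!
# A perfect group of degree three or four at the prime five or seven
-/

set_option autoImplicit false

open scoped Classical ComplexConjugate

namespace CfsgLib.Char.SmallLinear

open Cfsg CfsgLib CfsgLib.Blocks CfsgLib.Blocks.DefectOne CfsgLib.CharDeep.ExactP
open FeitDegree.Setup

universe u

variable {G : Type u} [Group G] [Fintype G] {p : ℕ} [hp : Fact p.Prime] {P : Sylow p G}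

/-- The setting. -/
structure Small (D : Frame P) (ζ : IrrCharacter G) (θ : IrrCharacter D.K0) (c : (ZMod p)ˣ) (d e : ℕ) : Prop where
  minus : Minus D ζ θ c
  deg : charDegree (ζ : G → ℂ) = d
  range : Nat.card D.act.range = e
  faith : ∀ g : G, (ζ : G → ℂ) g = (ζ : G → ℂ) 1 → g = 1
  not_normal : ¬ (P : Subgroup G).Normal
  simple : IsSimpleGroup (G ⧸ Subgroup.center G)
  zpow : ∀ z ∈ Subgroup.center G, z ^ d = 1
  two_e : 2 ≤ e
  two_d : 2 ≤ d
  sum : d + e = p
  quad : ∃ ω : ℂ, (∀ σ : ℂ ≃+* ℂ, σ ω = ω ∨ σ ω = conj ω) ∧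
    ∀ σ : ℂ ≃+* ℂ, σ ω = ω → ∀ r : ℂ, r ^ d = 1 → σ r = r

/-- Primitive roots of order three and four generate imaginary quadratic fields. -/
theorem exists_quad {d : ℕ} (hd : d = 3 ∨ d = 4) : ∃ ω : ℂ, (∀ σ : ℂ ≃+* ℂ, σ ω = ω ∨ σ ω = conj ω) ∧
    ∀ σ : ℂ ≃+* ℂ, σ ω = ω → ∀ r : ℂ, r ^ d = 1 → σ r = r := by
  have hd0 : d ≠ 0 := by omega
  haveI : NeZero d := ⟨hd0⟩
  have hω := Complex.isPrimitiveRoot_exp d hd0
  set ω := Complex.exp (2 * Real.pi * Complex.I / d)
  refine ⟨ω, fun σ => ?_, fun σ h r hr => ?_⟩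
  · obtain ⟨k, hk, hkc, he⟩ := (IsPrimitiveRoot.isPrimitiveRoot_iff hω).1 (hω.map_of_injective σ.injective)
    have hnorm : ω * conj ω = 1 := by
      rw [Complex.mul_conj', hω.norm'_eq_one hd0]; norm_num
    have hlast : ω ^ (d - 1) = conj ω := by
      calc ω ^ (d - 1) = ω ^ (d - 1) * (ω * conj ω) := by rw [hnorm, mul_one]
        _ = ω ^ (d - 1 + 1) * conj ω := by ring
        _ = conj ω := by rw [Nat.sub_add_cancel (by omega), hω.pow_eq_one, one_mul]
    have hk' : k = 1 ∨ k = d - 1 := by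
      rcases hd with rfl | rfl <;> interval_cases k <;> revert hkc <;> decide
    rcases hk' with rfl | rfl
    · left; rw [← he, pow_one]
    · right; rw [← he, hlast]
  · obtain ⟨i, -, rfl⟩ := hω.eq_pow_of_pow_eq_one hr
    rw [map_pow, h]

namespace Small

variable {D : Frame P} {ζ : IrrCharacter G} {θ : IrrCharacter D.K0} {c : (ZMod p)ˣ} {d e : ℕ}
  (S : Small D ζ θ c d e)
include S

theorem not_dvd_d : ¬ p ∣ d := fun h => by
  have := Nat.le_of_dvd (by have := S.two_d; omega) h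
  have := S.two_e
  have := S.sum
  omega

theorem apply_one : (ζ : G → ℂ) 1 = (d : ℂ) := by rw [irr_one_eq, S.deg]

theorem eq_one_of_center {q : ℕ} {g : G} (hqd : ¬ q ∣ d) (hq : q.Prime) (hz : g ∈ Subgroup.center G)
    (hg : IsPGroup q (Subgroup.zpowers g)) : g = 1 := by
  haveI := Fact.mk hq
  obtain ⟨k, hk⟩ := IsPGroup.iff_card.1 hg
  rw [Nat.card_zpowers] at hk
  have h1 : orderOf g ∣ d := orderOf_dvd_of_pow_eq_one (S.zpow g hz)
  rw [hk] at h1
  rcases Nat.eq_zero_or_pos k with h | h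
  · rw [h, pow_zero] at hk; exact orderOf_eq_one_iff.1 hk
  · exact absurd ((dvd_pow_self q h.ne').trans h1) hqd

theorem not_dvd_center {q : ℕ} (hq : q.Prime) (hqd : ¬ q ∣ d) : ¬ q ∣ Nat.card (Subgroup.center G) := fun h => by
  haveI := Fact.mk hq
  obtain ⟨z, hz⟩ := exists_prime_orderOf_dvd_card' q h
  refine hq.ne_one ?_
  rw [← hz, orderOf_eq_one_iff]
  refine Subtype.ext (S.eq_one_of_center hqd hq z.2 (IsPGroup.of_card (n := 1) ?_))
  rw [Nat.card_zpowers, Subgroup.orderOf_coe, hz, pow_one]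

/-- Elements with a `p'`-image are `p`-regular. -/
theorem regular_of_image {g : G} {n : ℕ} (hn : ¬ p ∣ n) (h : (g : G ⧸ Subgroup.center G) ^ n = 1) :
    ¬ p ∣ orderOf g := by
  intro hdvd
  have h1 : g ^ n ∈ Subgroup.center G := by
    rwa [← QuotientGroup.eq_one_iff, QuotientGroup.mk_pow]
  have h2 : orderOf g ∣ n * d := orderOf_dvd_of_pow_eq_one (by rw [pow_mul, S.zpow _ h1])
  rcases hp.out.dvd_mul.1 (hdvd.trans h2) with h3 | h3
  · exact hn h3
  · exact S.not_dvd_d h3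

theorem fixed {g : G} (hg : ¬ p ∣ orderOf g) (σ : ℂ ≃+* ℂ) (hσ : ∀ r : ℂ, r ^ d = 1 → σ r = r) :
    σ ((ζ : G → ℂ) g) = (ζ : G → ℂ) g ∧ σ (conj ((ζ : G → ℂ) g)) = conj ((ζ : G → ℂ) g) := by
  have hθ : ∀ v : D.K0, σ ((θ : D.K0 → ℂ) v) = (θ : D.K0 → ℂ) v := fun v => by
    obtain ⟨l, hl⟩ := exists_hom_of_apply_one_eq_one (isCharacter_irr θ)
      (DegHalf.linear_apply_one S.minus.theta_one)
    refine hσ _ ?_
    simp only [hl]
    rw [← Units.val_pow_eq_pow_val, ← map_pow,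
      show v ^ d = 1 from Subtype.ext (S.zpow v (S.minus.K0_eq ▸ v.2)), map_one, Units.val_one]
  have he : 2 ≤ Nat.card D.act.range := by rw [S.range]; exact S.two_e
  have hep : Nat.card D.act.range + 2 ≤ p := by
    rw [S.range]; have := S.two_d; have := S.sum; omega
  refine ⟨galois_fixed S.minus he hep σ hθ hg, ?_⟩
  rw [← IsCharacter.apply_inv (isCharacter_irr ζ) g]
  exact galois_fixed S.minus he hep σ hθ (by rwa [orderOf_inv])

/-- Rational values at elements of order prime to `d`. -/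
theorem exists_int {q : ℕ} (hq : q.Prime) (hqp : q ≠ p) (hqd : ¬ q ∣ d) {g : G}
    (hg : IsPGroup q (Subgroup.zpowers g)) : ∃ z : ℤ, (ζ : G → ℂ) g = z ∧ (g ≠ 1 → z.natAbs < d) := by
  haveI := Fact.mk hq
  obtain ⟨k, hk⟩ := IsPGroup.iff_card.1 hg
  rw [Nat.card_zpowers] at hk
  have hreg : ¬ p ∣ orderOf g := fun h => hqp ((Nat.prime_dvd_prime_iff_eq hp.out hq).1
    (hp.out.dvd_of_dvd_pow (hk ▸ h))).symm
  obtain ⟨z, hz⟩ := exists_int_of_roots ζ (n := d) (by have := S.two_d; omega)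
    (hk ▸ Nat.Coprime.pow_right k ((hq.coprime_iff_not_dvd.2 hqd).symm)) fun σ hσ => (S.fixed hreg σ hσ).1
  refine ⟨z, hz, fun h1 => ?_⟩
  by_contra hle
  refine h1 (S.eq_one_of_center hqd hq (DegreeTools.mem_center_of_norm_eq ζ S.faith g ?_) hg)
  refine le_antisymm (DegreeTools.norm_apply_le ζ g) ?_
  rw [hz, Complex.norm_intCast, S.deg, ← Int.cast_abs, ← Nat.cast_natAbs]
  exact_mod_cast not_lt.1 hle

/-- The squared modulus at a regular element. -/
theorem exists_normSq {g : G} (hg : ¬ p ∣ orderOf g) :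
    ∃ n : ℕ, (ζ : G → ℂ) g * conj ((ζ : G → ℂ) g) = (n : ℂ) ∧ (g ∉ Subgroup.center G → n < d * d) := by
  obtain ⟨ω, hω, hroots⟩ := S.quad
  obtain ⟨n, hn⟩ := exists_int_normSq (IsCharacter.isIntegral (isCharacter_irr ζ) g) hω
    fun σ hσ => S.fixed hg σ (hroots σ hσ)
  have hn' := hn
  rw [Complex.mul_conj'] at hn'
  have hn'' : ‖(ζ : G → ℂ) g‖ ^ 2 = (n : ℝ) := by exact_mod_cast hn'
  obtain ⟨m, rfl⟩ : ∃ m : ℕ, n = m := by
    refine Int.eq_ofNat_of_zero_le ?_
    have : (0 : ℝ) ≤ (n : ℝ) := hn'' ▸ sq_nonneg _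
    exact_mod_cast this
  refine ⟨m, by rw [hn, Int.cast_natCast], fun hz => ?_⟩
  by_contra hle
  refine hz (DegreeTools.mem_center_of_norm_eq ζ S.faith g (le_antisymm (DegreeTools.norm_apply_le ζ g) ?_))
  rw [S.deg]
  rw [Int.cast_natCast] at hn''
  have h1 : ((d : ℝ)) * d ≤ m := by exact_mod_cast not_lt.1 hle
  nlinarith [norm_nonneg ((ζ : G → ℂ) g)]

/-- The squared modulus as a character of the central quotient. -/
theorem exists_phi : ∃ Φ : G ⧸ Subgroup.center G → ℂ, Cfsg.IsCharacter (G ⧸ Subgroup.center G) Φ ∧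
    (∀ g : G, Φ g = (ζ : G → ℂ) g * conj ((ζ : G → ℂ) g)) ∧
    ∑ x, Φ x = (Nat.card (G ⧸ Subgroup.center G) : ℂ) := by
  have hf : Cfsg.IsCharacter G fun g => (ζ : G → ℂ) g * conj ((ζ : G → ℂ) g) :=
    IsCharacter.mul (isCharacter_irr ζ) (IsCharacter.conj' (isCharacter_irr ζ))
  have hz : ∀ z ∈ Subgroup.center G, ∀ g : G,
      (ζ : G → ℂ) (z * g) * conj ((ζ : G → ℂ) (z * g)) = (ζ : G → ℂ) g * conj ((ζ : G → ℂ) g) := fun z hz g => by
    obtain ⟨ω, hω, hmul⟩ := DegreeBound.apply_central_mul ζ.2 hz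
    rw [hmul, map_mul, mul_mul_mul_comm, Complex.mul_conj', hω]
    simp
  obtain ⟨Φ, hΦ, he⟩ := IsCharacter.exists_deflate hf (Subgroup.center G) fun z h => by
    have := hz z h 1
    rw [mul_one] at this
    exact this
  refine ⟨Φ, hΦ, fun g => (congrFun he g).symm, ?_⟩
  have h1 := classInner_irr_self ζ.2
  rw [Cfsg.classInner, inv_mul_eq_iff_eq_mul₀ card_ne_zero, mul_one] at h1
  have h2 : ∑ g : G, (ζ : G → ℂ) g * conj ((ζ : G → ℂ) g) = (Nat.card (Subgroup.center G) : ℂ) * ∑ x, Φ x := by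
    rw [Finset.sum_congr rfl (g := fun g : G => Φ (g : G ⧸ Subgroup.center G)) fun g _ => congrFun he g,
      Fintype.sum_equiv (Subgroup.groupEquivQuotientProdSubgroup (s := Subgroup.center G))
        (fun g : G => Φ (g : G ⧸ Subgroup.center G)) (fun q => Φ q.1) (fun g => rfl),
      Fintype.sum_prod_type, Finset.mul_sum]
    exact Finset.sum_congr rfl fun x _ => by
      simp [Finset.sum_const, Nat.card_eq_fintype_card]
  rw [h1, Subgroup.card_eq_card_quotient_mul_card_subgroup (Subgroup.center G), Nat.cast_mul, mul_comm] at h2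
  exact (mul_left_cancel₀ card_ne_zero h2).symm

/-- The order of the central quotient. -/
theorem card_quotient : ∃ k : ℕ, Nat.card (G ⧸ Subgroup.center G) = p * e * (1 + p * k) := by
  have hN : Nat.card (nrm P) = e * (p * Nat.card (Subgroup.center G)) := by
    rw [D.card_nrm, D.card_cent, S.minus.K0_eq, S.range]
  have hn : (nrm P).index ≡ 1 [MOD p] := by
    show (Subgroup.normalizer (P : Set G)).index ≡ 1 [MOD p]
    rw [← P.card_eq_index_normalizer]
    exact card_sylow_modEq_one p G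
  refine ⟨(nrm P).index / p, ?_⟩
  have hi : (nrm P).index = 1 + p * ((nrm P).index / p) := by
    have h1 := Nat.mod_add_div (nrm P).index p
    rw [hn, Nat.mod_eq_of_lt hp.out.one_lt] at h1
    exact h1.symm
  have h2 := (nrm P).card_mul_index
  rw [hN, Subgroup.card_eq_card_quotient_mul_card_subgroup (Subgroup.center G)] at h2
  rw [← hi]
  refine Nat.eq_of_mul_eq_mul_right (Nat.card_pos (α := Subgroup.center G)) ?_
  rw [← h2]
  ring

/-- The bound on a `q`-part from integral values in `G`. -/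
theorem pow_dvd_prod_int {q a : ℕ} (hq : q.Prime) (hqp : q ≠ p) (hqd : ¬ q ∣ d)
    (ha : q ^ a ∣ Nat.card (G ⧸ Subgroup.center G)) :
    ((q ^ a : ℕ) : ℤ) ∣ ∏ v ∈ Finset.Ioo (-(d : ℤ)) d, ((d : ℤ) - v) := by
  haveI := Fact.mk hq
  obtain ⟨R, hR⟩ := Sylow.exists_subgroup_card_pow_prime (G := G) q
    (ha.trans (Subgroup.card_quotient_dvd_card _))
  have hRp : IsPGroup q R := IsPGroup.of_card hR
  rw [← hR]
  refine card_dvd_prod (IsCharacter.restrict (isCharacter_irr ζ) R) S.apply_one _ fun g hg => ?_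
  obtain ⟨z, hz, hlt⟩ := S.exists_int hq hqp hqd (hRp.to_le (Subgroup.zpowers_le.2 g.2))
  refine ⟨z, Finset.mem_Ioo.2 ?_, hz⟩
  have := hlt fun h => hg (Subtype.ext h)
  omega

/-- The bound on a `q`-part from the squared moduli. -/
theorem pow_dvd_prod_sq {q a : ℕ} (hq : q.Prime) (hqp : q ≠ p) (L : Finset ℕ)
    (hL : ∀ g : G, ¬ p ∣ orderOf g → ∀ n : ℕ, (ζ : G → ℂ) g * conj ((ζ : G → ℂ) g) = n → n < d * d → n ∈ L)
    (ha : q ^ a ∣ Nat.card (G ⧸ Subgroup.center G)) :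
    ((q ^ a : ℕ) : ℤ) ∣ ∏ v ∈ L.image (fun n : ℕ => (n : ℤ)), (((d * d : ℕ) : ℤ) - v) := by
  haveI := Fact.mk hq
  obtain ⟨Φ, hΦ, hval, -⟩ := S.exists_phi
  obtain ⟨R, hR⟩ := Sylow.exists_subgroup_card_pow_prime (G := G ⧸ Subgroup.center G) q ha
  rw [← hR]
  refine card_dvd_prod (IsCharacter.restrict hΦ R) ?_ _ fun x hx => ?_
  · show Φ ((1 : R) : G ⧸ Subgroup.center G) = _
    rw [OneMemClass.coe_one, ← QuotientGroup.mk_one, hval, S.apply_one, map_natCast]
    push_cast; rfl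
  obtain ⟨g, hg⟩ := QuotientGroup.mk_surjective (x : G ⧸ Subgroup.center G)
  have hreg : ¬ p ∣ orderOf g := S.regular_of_image (n := q ^ a) (fun h => hqp
    ((Nat.prime_dvd_prime_iff_eq hp.out hq).1 (hp.out.dvd_of_dvd_pow h)).symm) (by
      rw [hg, ← hR]
      exact congrArg Subtype.val (pow_card_eq_one' (x := x)))
  obtain ⟨n, hn, hlt⟩ := S.exists_normSq hreg
  have hgz : g ∉ Subgroup.center G := fun h => hx (Subtype.ext (hg.symm.trans ((QuotientGroup.eq_one_iff g).2 h)))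
  refine ⟨(n : ℤ), Finset.mem_image.2 ⟨n, hL g hreg n hn (hlt hgz), rfl⟩, ?_⟩
  show Φ (x : G ⧸ Subgroup.center G) = _
  rw [← hg, hval, hn, Int.cast_natCast]

/-- Normal subgroups avoiding the prime are central. -/
theorem le_center {N : Subgroup G} [N.Normal] (hx : D.x ∉ N) : N ≤ Subgroup.center G :=
  S.minus.K0_eq ▸ FeitDegree.Kernel.le_K0 (isCharacter_irr ζ) S.faith
    (by rw [S.deg]; have := S.sum; have := S.two_e; omega) hx

/-- A Sylow subgroup of a prime dividing the central quotient is not normal. -/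
theorem sylow_not_normal {q : ℕ} [Fact q.Prime] (hqp : q ≠ p) (hqd : ¬ q ∣ d)
    (hdvd : q ∣ Nat.card (G ⧸ Subgroup.center G)) (Q : Sylow q G) : ¬ (Q : Subgroup G).Normal := by
  intro hn
  haveI := hn
  have hx : D.x ∉ (Q : Subgroup G) := fun h => by
    obtain ⟨k, hk⟩ := IsPGroup.iff_card.1 Q.2
    have h1 : orderOf D.x ∣ q ^ k := hk ▸ Subgroup.orderOf_dvd_natCard _ h
    rw [D.ord] at h1
    exact hqp ((Nat.prime_dvd_prime_iff_eq hp.out Fact.out).1 (hp.out.dvd_of_dvd_pow h1)).symm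
  have hle := S.le_center hx
  have h2 : q ∣ Nat.card (Q : Subgroup G) := Q.dvd_card_of_dvd_card (hdvd.trans (Subgroup.card_quotient_dvd_card _))
  exact S.not_dvd_center Fact.out hqd (h2.trans (Subgroup.card_dvd_of_le hle))

/-- No large prime divides the order. -/
theorem not_dvd_of_large {q : ℕ} (hq : q.Prime) (hqp : q ≠ p) (h : 2 * d + 1 < q) :
    ¬ q ∣ Nat.card (G ⧸ Subgroup.center G) := by
  intro hdvd
  haveI := Fact.mk hq
  obtain ⟨Q⟩ : Nonempty (Sylow q G) := inferInstance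
  refine S.sylow_not_normal hqp (fun h' => ?_) hdvd Q
    (FeitDegree.Index.normal_of_small (isCharacter_irr ζ) S.faith (by rw [S.deg]; exact h) Q)
  have := Nat.le_of_dvd (by have := S.two_d; omega) h'
  omega

end Small

end CfsgLib.Char.SmallLinear
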