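import Cfsg.Agent.Lib.Char.FeitDegree.Index.Reduce
import Cfsg.Agent.Lib.Char.SmallLinear.Setting
import Cfsg.Agent.Lib.Perm.ZGroup.Simple
import Cfsg.Agent.Lib.Char.FeitDegree.Sixteen.Main
import Cfsg.Agent.S0496
import Cfsg.Agent.S0998

/-!
# Divisibility and recognition of the orders
-/

set_option autoImplicit false

open scoped Classical

namespace CfsgLib.Char.SmallLinear

open Cfsg CfsgLib

universe u

/-- A number is determined up to divisibility by its prime power divisors. -/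
theorem dvd_of_primes {n M : ℕ} (hn : n ≠ 0) (hM : M ≠ 0)
    (h : ∀ q : ℕ, q.Prime → ∀ a : ℕ, q ^ a ∣ n → q ^ a ∣ M) : n ∣ M := by
  refine (Nat.factorization_le_iff_dvd hn hM).1 fun q => ?_
  by_cases hq : q.Prime
  · exact (hq.pow_dvd_iff_le_factorization hM).1 (h q hq _ (Nat.ordProj_dvd n q))
  · simp [Nat.factorization_eq_zero_of_not_prime _ hq]

/-- The part of a prime power prime to the cofactor. -/
theorem pow_dvd_of_int {q a m r : ℕ} (hq : q.Prime) (hr : ¬ q ∣ r)
    (h : ((q ^ a : ℕ) : ℤ) ∣ ((m * r : ℕ) : ℤ)) : q ^ a ∣ m :=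
  ((hq.coprime_iff_not_dvd.2 hr).pow_left a).dvd_of_dvd_mul_right (Int.natCast_dvd_natCast.1 h)

theorem card_psl {p : ℕ} [Fact p.Prime] (hp2 : p ≠ 2) :
    2 * Nat.card (Matrix.ProjectiveSpecialLinearGroup (Fin 2) (ZMod p)) = p * ((p - 1) * (p + 1)) := by
  have h := Perm.ZGroup.card_psl2_gcd (F := ZMod p)
  rw [ZMod.card, Nat.gcd_eq_left] at h
  · exact h
  · obtain ⟨r, hr⟩ := (Fact.out : p.Prime).odd_of_ne_two hp2
    exact ⟨r, by omega⟩

variable {X : Type u} [Group X] [Finite X] [IsSimpleGroup X]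

theorem not_comm_of_not_prime (h : ¬ (Nat.card X).Prime) : ¬ IsMulCommutative X := fun hc => by
  letI : CommGroup X := { ‹Group X› with mul_comm := hc.is_comm.comm }
  exact h IsSimpleGroup.prime_card

/-- A simple group whose order is `r` times a `2`-power times `3` or `5`. -/
theorem psl_of_card {p q r b : ℕ} [Fact p.Prime] (hp : p = 5 ∨ p = 7) (hq : q.Prime) (hr : r.Prime)
    (hqr : q ≠ r) (hpr : p ≠ r) (hpq : p ≠ q) (hb : 0 < b) (hcard : Nat.card X = p * r * q ^ b) :
    Nonempty (X ≃* Matrix.ProjectiveSpecialLinearGroup (Fin 2) (ZMod p)) := by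
  have hnc : ¬ IsCyclic X := fun hc => by
    refine not_comm_of_not_prime (X := X) ?_ (IsCyclic.isMulCommutative (α := X))
    rw [hcard, mul_assoc]
    refine Nat.not_prime_mul (Fact.out : p.Prime).ne_one fun e => ?_
    exact hr.ne_one (Nat.eq_one_of_mul_eq_one_right e)
  have hp2 : p ≠ 2 := by omega
  have hdvd : p ∣ Nat.card X := ⟨r * q ^ b, by rw [hcard, mul_assoc]⟩
  rcases Cfsg.Agent.S0998.result hnc p q r b Fact.out hq hr hpq hpr hqr hcard with
    ⟨F, _, _, hF, ⟨e⟩⟩ | ⟨F, _, _, hF, ⟨e⟩⟩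
  · haveI : Fact (Nat.Prime 5) := ⟨by norm_num⟩
    obtain ⟨e'⟩ := FeitDegree.Sixteen.psl_congr (FiniteField.ringEquivOfCardEq (K := F) (K' := ZMod 5) (by rw [hF, ZMod.card]))
    have hX := Nat.card_congr (e.trans e').toEquiv
    have h5 := card_psl (p := 5) (by norm_num)
    rcases hp with rfl | rfl
    · exact ⟨e.trans e'⟩
    · exfalso; omega
  · haveI : Fact (Nat.Prime 7) := ⟨by norm_num⟩
    obtain ⟨e'⟩ := FeitDegree.Sixteen.psl_congr (FiniteField.ringEquivOfCardEq (K := F) (K' := ZMod 7) (by rw [hF, ZMod.card]))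
    have hX := Nat.card_congr (e.trans e').toEquiv
    have h5 := card_psl (p := 7) (by norm_num)
    rcases hp with rfl | rfl
    · exfalso; omega
    · exact ⟨e.trans e'⟩

end CfsgLib.Char.SmallLinear
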