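import Cfsg.Agent.Lib.Char.FeitDegree.Perfect
import Cfsg.Agent.Lib.Char.SmallLinear.DegThree
import Cfsg.Agent.Lib.Char.SmallLinear.DegFour

/-!
# Passing to the derived group
-/

set_option autoImplicit false

open scoped Classical ComplexConjugate commutatorElement

namespace CfsgLib.Char.SmallLinear

open Cfsg CfsgLib CfsgLib.Blocks CfsgLib.Blocks.DefectOne CfsgLib.CharDeep.ExactP
open FeitDegree FeitDegree.Setup

universe u

variable {G : Type u} [Group G] [Fintype G] {p : ℕ} [hp : Fact p.Prime]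

theorem exists_minus (hp5 : 5 ≤ p) (hp7 : p ≤ 7) {P : Sylow p G} (D : Frame P) (hnn : ¬ (P : Subgroup G).Normal)
    {ζ : IrrCharacter G} (hfaith : ∀ g : G, (ζ : G → ℂ) g = (ζ : G → ℂ) 1 → g = 1) {d e : ℕ}
    (hd : charDegree (ζ : G → ℂ) = d) (hsum : d + e = p) (he : 2 ≤ e) (hhalf : 2 * d + 1 ≠ p) :
    ∃ θ c, Minus D ζ θ c ∧ Nat.card D.act.range = e := by
  rcases Setup.cases (D := D) hp5 hnn ζ hfaith (by omega) with h | h | ⟨θ, c, M⟩
  · exact absurd (hd ▸ h) hhalf
  · exact (Index.few_small hp5 hp7 hnn hfaith (by omega) h).elim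
  · have := M.deg
    exact ⟨θ, c, M, by omega⟩

/-- The derived group gives the setting and the same central quotient. -/
theorem exists_small (hp5 : 5 ≤ p) (hp7 : p ≤ 7) {P : Sylow p G} (hP : Nat.card P = p)
    (hnn : ¬ (P : Subgroup G).Normal) (ζ : IrrCharacter G)
    (hfaith : ∀ g : G, (ζ : G → ℂ) g = (ζ : G → ℂ) 1 → g = 1) {d e : ℕ} (hd : charDegree (ζ : G → ℂ) = d)
    (hd34 : d = 3 ∨ d = 4) (hsum : d + e = p) (hpr : e.Prime) {R : Prop}
    (h : ∀ (H : Type u) [Group H] [Fintype H] (Q : Sylow p H) (D : Frame Q) (φ : IrrCharacter H)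
      (θ : IrrCharacter D.K0) (c : (ZMod p)ˣ), Small D φ θ c d e →
      Nonempty (G ⧸ Subgroup.center G ≃* H ⧸ Subgroup.center H) → R) : R := by
  have hhalf : 2 * d + 1 ≠ p := by
    intro hh
    have := hp.out
    rcases hd34 with rfl | rfl
    · have h4 : e = 4 := by omega
      rw [h4] at hpr; norm_num at hpr
    · have h9 : p = 9 := by omega
      rw [h9] at this; norm_num at this
  have he2 := hpr.two_le
  obtain ⟨D⟩ := exists_frame P hP
  obtain ⟨θ, c, M, hrange⟩ := exists_minus hp5 hp7 D hnn hfaith hd hsum he2 hhalf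
  obtain ⟨hPH, hQnn, hQcard, hGHZ, hperf⟩ :=
    Perfect.commutator_spec hP hnn hfaith (by omega) M (by rw [hrange]; exact hpr)
  set H := commutator G with hH
  haveI : H.Normal := by rw [hH]; infer_instance
  letI := Fintype.ofFinite H
  set Q : Sylow p H := P.subtype hPH
  have hxH : D.x ∈ H := hPH D.x_mem
  have hxZ : D.x ∉ Subgroup.center G := fun hc => by
    have h1 : D.x ∈ (P : Subgroup G) ⊓ Subgroup.center G := ⟨D.x_mem, hc⟩
    rw [Setup.inf_center D hnn, Subgroup.mem_bot] at h1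
    have h2 := D.ord
    rw [h1, orderOf_one] at h2
    omega
  have hirr := irr_restrict ζ hfaith (by omega) (Index.core_center_of_card hP hnn) H
    (P.2.to_le (Subgroup.zpowers_le.2 D.x_mem)) hxH hxZ
  set φ : IrrCharacter H := ⟨_, hirr⟩
  have hfφ : ∀ x : H, (φ : H → ℂ) x = (φ : H → ℂ) 1 → x = 1 :=
    fun x hx => CharDeep.SmallFaithful.faithful_restrict hfaith H x hx
  have hdφ : charDegree (φ : H → ℂ) = d := hd
  obtain ⟨D'⟩ := exists_frame Q hQcard
  obtain ⟨θ', c', M', hrange'⟩ := exists_minus hp5 hp7 D' hQnn hfφ hdφ hsum he2 hhalf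
  have hzpow : ∀ z ∈ Subgroup.center H, z ^ d = 1 := by
    intro z hz
    refine hfφ _ ?_
    have hhom : ∀ f : H →* ℂˣ, f z = 1 := fun f => by
      refine MonoidHom.mem_ker.1 (?_ : z ∈ f.ker)
      exact Abelianization.commutator_subset_ker f (hperf ▸ Subgroup.mem_top z)
    obtain ⟨n, ρ, hirr, hρ⟩ := φ.2
    obtain ⟨ω, hω⟩ := exists_eq_smul_of_commute ρ (ρ z) fun g => by
      rw [← Module.End.mul_eq_comp, ← Module.End.mul_eq_comp, ← map_mul, ← map_mul, Subgroup.mem_center_iff.mp hz g]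
    have hn : n = d := by
      rw [← hdφ, ← hρ, charDegree, Representation.char_one, Module.finrank_fin_fun, Complex.natCast_re,
        Nat.floor_natCast]
    have hωd : ω ^ d = 1 := by
      have h1 := congrArg Units.val (hhom (CharDeep.DetExt.detHom ρ))
      rw [CharDeep.DetExt.coe_detHom, hω, LinearMap.det_smul, LinearMap.det_id, mul_one, Module.finrank_fin_fun,
        Units.val_one, hn] at h1
      exact h1
    rw [← hρ]
    simp only [Representation.character, map_pow, hω, smul_pow, hωd, one_smul, map_one]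
    rw [← Module.End.one_eq_id, one_pow]
  have hsimple : IsSimpleGroup (H ⧸ Subgroup.center H) := by
    have hx'Z : D'.x ∉ Subgroup.center H := fun hc => by
      have h1 : D'.x ∈ (Q : Subgroup H) ⊓ Subgroup.center H := ⟨D'.x_mem, hc⟩
      rw [Setup.inf_center D' hQnn, Subgroup.mem_bot] at h1
      have h2 := D'.ord
      rw [h1, orderOf_one] at h2
      omega
    haveI : Nontrivial (H ⧸ Subgroup.center H) :=
      ⟨⟨(D'.x : H ⧸ Subgroup.center H), 1, fun hc => hx'Z ((QuotientGroup.eq_one_iff _).1 hc)⟩⟩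
    refine ⟨fun N hN => ?_⟩
    haveI := hN
    set M₀ := N.comap (QuotientGroup.mk' (Subgroup.center H))
    have hsur := QuotientGroup.mk'_surjective (Subgroup.center H)
    by_cases hx : D'.x ∈ M₀
    swap
    · left
      have hle : M₀ ≤ Subgroup.center H := M'.K0_eq ▸
        Kernel.le_K0 (isCharacter_irr φ) hfφ (by rw [hdφ]; omega) hx
      rw [eq_bot_iff]
      intro y hy
      obtain ⟨g, rfl⟩ := hsur y
      exact Subgroup.mem_bot.2 ((QuotientGroup.eq_one_iff g).2 (hle hy))
    right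
    have htop : M₀ = ⊤ := by
      haveI : Fact e.Prime := ⟨hpr⟩
      obtain ⟨⟨u, n, hn⟩, hu⟩ : ∃ u : D'.act.range, u ≠ 1 := by
        by_contra hall
        push Not at hall
        have : Nat.card D'.act.range ≤ 1 := by
          rw [Finite.card_le_one_iff_subsingleton]
          exact ⟨fun a b => (hall a).trans (hall b).symm⟩
        omega
      have hgen : Subgroup.zpowers (⟨u, n, hn⟩ : D'.act.range) = ⊤ := zpowers_eq_top_of_prime_card hrange' hu
      have hQM : (Q : Subgroup H) ≤ M₀ := by rw [← D'.zp, Subgroup.zpowers_le]; exact hx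
      haveI : M₀.Normal := hN.comap _
      have hcyc : ∀ h : H, ∃ i : ℤ, (h : H ⧸ M₀) = ((n : H) : H ⧸ M₀) ^ i := by
        intro h
        have hfr : Subgroup.normalizer ((Q : Subgroup H) : Set H) ⊔ M₀ = ⊤ := by
          have h3 := (Q.subtype hQM).normalizer_sup_eq_top
          rwa [Sylow.coe_subtype, Subgroup.subgroupOf_map_subtype, inf_eq_left.2 hQM] at h3
        obtain ⟨a, ha, b, hb, rfl⟩ := Subgroup.mem_sup_of_normal_right.1 (hfr ▸ Subgroup.mem_top h : h ∈ _ ⊔ M₀)
        obtain ⟨i, hi⟩ := Subgroup.mem_zpowers_iff.1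
          (hgen.symm ▸ Subgroup.mem_top (⟨D'.act ⟨a, ha⟩, _, rfl⟩ : D'.act.range) :
            (⟨D'.act ⟨a, ha⟩, _, rfl⟩ : D'.act.range) ∈ Subgroup.zpowers (⟨u, n, hn⟩ : D'.act.range))
        refine ⟨i, ?_⟩
        have hc : ((n : nrm Q) ^ i)⁻¹ * ⟨a, ha⟩ ∈ D'.act.ker := by
          have h1 := congrArg Subtype.val hi
          rw [SubgroupClass.coe_zpow] at h1
          rw [MonoidHom.mem_ker, map_mul, map_inv, map_zpow, hn, h1, inv_mul_cancel]
        obtain ⟨j, y, hy, hjy⟩ := D'.decomp _ ((D'.mem_cent_iff _).1 ((D'.act_eq_one_iff _).1 hc))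
        have h2 : a = (n : H) ^ i * (D'.x ^ j * y) := by
          rw [← hjy]
          simp
        have hym : y ∈ M₀ := by
          rw [M'.K0_eq] at hy
          show QuotientGroup.mk' _ y ∈ N
          rw [show QuotientGroup.mk' (Subgroup.center H) y = 1 from (QuotientGroup.eq_one_iff y).2 hy]
          exact one_mem N
        rw [h2, QuotientGroup.mk_mul, (QuotientGroup.eq_one_iff b).2 hb, mul_one, QuotientGroup.mk_mul,
          (QuotientGroup.eq_one_iff _).2 (mul_mem (pow_mem hx j) hym), mul_one, QuotientGroup.mk_zpow]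
      rw [eq_top_iff, ← hperf, commutator_def, Subgroup.commutator_le]
      intro a _ b _
      rw [← QuotientGroup.eq_one_iff]
      obtain ⟨i, hi⟩ := hcyc a
      obtain ⟨j, hj⟩ := hcyc b
      show QuotientGroup.mk' M₀ ⁅a, b⁆ = 1
      rw [map_commutatorElement, commutatorElement_eq_one_iff_commute, QuotientGroup.mk'_apply,
        QuotientGroup.mk'_apply, hi, hj]
      exact (Commute.refl _).zpow_zpow i j
    rw [eq_top_iff]
    intro y _
    obtain ⟨g, rfl⟩ := hsur y
    exact (htop ▸ Subgroup.mem_top g : g ∈ M₀)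
  set π : H →* G ⧸ Subgroup.center G := (QuotientGroup.mk' _).comp H.subtype with hπ
  have hπs : Function.Surjective π := fun y => by
    obtain ⟨g, rfl⟩ := QuotientGroup.mk'_surjective (Subgroup.center G) y
    obtain ⟨h, hh, z, hz, rfl⟩ := hGHZ g
    refine ⟨⟨h, hh⟩, ?_⟩
    show QuotientGroup.mk' _ h = QuotientGroup.mk' _ (h * z)
    rw [map_mul, show QuotientGroup.mk' (Subgroup.center G) z = 1 from (QuotientGroup.eq_one_iff z).2 hz, mul_one]
  have hker : π.ker = Subgroup.center H := by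
    ext x
    rw [MonoidHom.mem_ker]
    show ((x : G) : G ⧸ Subgroup.center G) = 1 ↔ _
    rw [QuotientGroup.eq_one_iff]
    constructor
    · exact fun hx => Subgroup.mem_center_iff.2 fun y => Subtype.ext (Subgroup.mem_center_iff.1 hx (y : G))
    · intro hx
      refine Subgroup.mem_center_iff.2 fun g => ?_
      obtain ⟨h, hh, z, hz, rfl⟩ := hGHZ g
      have h1 : h * (x : G) = (x : G) * h := congrArg Subtype.val (Subgroup.mem_center_iff.1 hx ⟨h, hh⟩)
      rw [mul_assoc, ← Subgroup.mem_center_iff.1 hz (x : G), ← mul_assoc, h1, mul_assoc]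
  exact h H Q D' φ θ' c'
    ⟨M', hdφ, hrange', hfφ, hQnn, hsimple, hzpow, he2, by omega, hsum, exists_quad hd34⟩
    ⟨((QuotientGroup.quotientMulEquivOfEq hker.symm).trans (QuotientGroup.quotientKerEquivOfSurjective π hπs)).symm⟩

end CfsgLib.Char.SmallLinear
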