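import Cfsg.Agent.Lib.CharDeep.BlichfeldtSixty
import Cfsg.Agent.Lib.CharDeep.IrrTools
import Cfsg.Agent.Lib.Char.Orth
import Cfsg.Agent.S4484

/-!
# An element with two eigenvalues less than sixty degrees apart

If an element of a finite linear group has just two eigenvalues and these have distance less than
one, then its normal closure does not act irreducibly.
-/

set_option autoImplicit false

open scoped InnerProductSpace ComplexConjugate Classical
open Module

namespace CfsgLib.Char.SmallLinear.TwoEigen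

open Cfsg CfsgLib CfsgLib.Blocks

universe u

variable {G : Type u} [Group G] [Fintype G]

/-- Two power-sum laws with the same two bases force all eigenvalues to be one of them. -/
theorem mem_pair {ι : Type*} [Fintype ι] {μ : ι → ℂ} {N : ℕ} (hN : N ≠ 0) (hμ : ∀ i, μ i ^ N = 1)
    {a b : ℂ} (ha : a ^ N = 1) (hb : b ^ N = 1) {m n : ℕ}
    (hsum : ∀ k : ℕ, ∑ i, μ i ^ k = m * a ^ k + n * b ^ k) (i : ι) : μ i = a ∨ μ i = b := by
  obtain ⟨M, rfl⟩ : ∃ M, N = M + 1 := ⟨N - 1, by omega⟩
  let F : ℂ → ℂ := fun z => (z - a) * (z - b) * ((z ^ M - a ^ M) * (z ^ M - b ^ M))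
  have hexp : ∀ z : ℂ, F z = z ^ (2 + 2 * M) + (-(a ^ M + b ^ M)) * z ^ (2 + M) + a ^ M * b ^ M * z ^ 2
      + (-(a + b)) * z ^ (1 + 2 * M) + (a + b) * (a ^ M + b ^ M) * z ^ (1 + M)
      + (-(a + b) * (a ^ M * b ^ M)) * z ^ 1 + a * b * z ^ (2 * M) + (-(a * b) * (a ^ M + b ^ M)) * z ^ M
      + a * b * (a ^ M * b ^ M) * z ^ 0 := fun z => by simp only [F]; ring
  have hF : ∑ i, F (μ i) = m * F a + n * F b := by
    simp only [hexp, Finset.sum_add_distrib, ← Finset.mul_sum, hsum]
    ring
  have hnn : ∀ z : ℂ, z ^ (M + 1) = 1 → F z = ((‖z - a‖ ^ 2 * ‖z - b‖ ^ 2 : ℝ) : ℂ) := by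
    intro z hz
    have hc : ∀ w : ℂ, w ^ (M + 1) = 1 → w ^ M = conj w := fun w hw => by
      have h1 : w * conj w = 1 := by
        rw [Complex.mul_conj', Complex.norm_eq_one_of_pow_eq_one hw (by omega)]; norm_num
      calc w ^ M = w ^ M * (w * conj w) := by rw [h1, mul_one]
        _ = w ^ (M + 1) * conj w := by ring
        _ = conj w := by rw [hw, one_mul]
    simp only [F, hc z hz, hc a ha, hc b hb, ← map_sub]
    push_cast
    rw [← Complex.mul_conj', ← Complex.mul_conj']
    ring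
  have h0 : ∑ i, (‖μ i - a‖ ^ 2 * ‖μ i - b‖ ^ 2 : ℝ) = 0 := by
    apply Complex.ofReal_injective
    rw [Complex.ofReal_sum, ← Finset.sum_congr rfl fun i _ => hnn (μ i) (hμ i), hF]
    simp [F]
  have h := (Finset.sum_eq_zero_iff_of_nonneg fun i _ => by positivity).1 h0 i (Finset.mem_univ i)
  rcases mul_eq_zero.1 h with h | h
  · exact Or.inl (sub_eq_zero.1 (norm_eq_zero.1 (pow_eq_zero_iff two_ne_zero |>.1 h)))
  · exact Or.inr (sub_eq_zero.1 (norm_eq_zero.1 (pow_eq_zero_iff two_ne_zero |>.1 h)))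

section
variable {V : Type*} [NormedAddCommGroup V] [InnerProductSpace ℂ V] [FiniteDimensional ℂ V]
  (σ : Representation ℂ G V) (hU : ∀ g v w, ⟪σ g v, σ g w⟫_ℂ = ⟪v, w⟫_ℂ)

omit [Fintype G] [FiniteDimensional ℂ V] in
include hU in
/-- A quadratic relation with two close roots bounds the distance to either. -/
theorem near {v : G} {a b : ℂ} (ha1 : ‖a‖ = 1) (hne : a ≠ b)
    (hquad : ∀ w : V, σ v (σ v w - a • w) = b • (σ v w - a • w)) (w : V) :
    ‖σ v w - a • w‖ ≤ ‖b - a‖ * ‖w‖ := by
  have hba : b - a ≠ 0 := sub_ne_zero.2 (Ne.symm hne)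
  set u := σ v w - a • w with hu
  set w1 := (b - a)⁻¹ • u
  set w0 := w - w1
  have h1 : σ v w1 = b • w1 := by rw [map_smul, hquad, smul_comm]
  have hu2 : u = (b - a) • w1 := by rw [smul_smul, mul_inv_cancel₀ hba, one_smul]
  have h0 : σ v w0 = a • w0 := by
    rw [map_sub, h1, smul_sub]
    rw [hu, sub_smul] at hu2
    linear_combination (norm := module) hu2
  have horth : ⟪w0, w1⟫_ℂ = 0 := by
    have h := hU v w0 w1
    rw [h0, h1, inner_smul_left, inner_smul_right, ← mul_assoc] at h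
    by_contra hc
    have h2 : conj a * b = 1 := mul_right_cancel₀ hc (by rw [h, one_mul])
    have h3 : a * conj a = 1 := by rw [Complex.mul_conj', ha1]; norm_num
    exact hne (calc a = a * (conj a * b) := by rw [h2, mul_one]
      _ = b := by rw [← mul_assoc, h3, one_mul])
  rw [hu2, norm_smul]
  refine mul_le_mul_of_nonneg_left ?_ (norm_nonneg _)
  refine (pow_le_pow_iff_left₀ (norm_nonneg _) (norm_nonneg _) two_ne_zero).1 ?_
  have hw : w = w0 + w1 := (sub_add_cancel w w1).symm
  rw [hw, sq, sq, norm_add_sq_eq_norm_sq_add_norm_sq_of_inner_eq_zero _ _ horth]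
  nlinarith [mul_self_nonneg ‖w0‖]

include hU in
/-- The operator form. -/
theorem false_of_close_aux (v : G)
    [Representation.IsIrreducible (σ.comp (Subgroup.normalClosure ({v} : Set G)).subtype : Representation ℂ (Subgroup.normalClosure ({v} : Set G)) V)]
    {a b : ℂ} (ha : a ^ orderOf v = 1) (hb : b ^ orderOf v = 1) (hlt : ‖b - a‖ < 1) (hne : a ≠ b)
    {m n : ℕ} (hm : 0 < m) (hn : 0 < n)
    (hval : ∀ k : ℕ, σ.character (v ^ k) = m * a ^ k + n * b ^ k) : False := by
  obtain ⟨B, μ, hμ1, hμ2⟩ := exists_eigenbasis σ v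
  have hpow : ∀ k : ℕ, ∑ i, μ i ^ k = m * a ^ k + n * b ^ k := fun k => by
    rw [← hval]
    exact (trace_eq_sum_of_eigen _ B _ (hμ2 k)).symm
  have hpair := mem_pair (orderOf_pos v).ne' hμ1 ha hb hpow
  have hev : ∀ i, σ v (B i) = μ i • B i := fun i => by simpa using hμ2 1 i
  have hquad : ∀ w : V, σ v (σ v w - a • w) = b • (σ v w - a • w) := by
    intro w
    have hlin : (σ v).comp (σ v - a • LinearMap.id) = b • (σ v - a • LinearMap.id) := B.ext fun i => by
      rcases hpair i with h | h <;> simp [hev, h, smul_sub, smul_smul, mul_comm]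
    simpa using LinearMap.congr_fun hlin w
  have ha1 : ‖a‖ = 1 := norm_eq_one_of_pow_orderOf ha
  have hnear := near σ hU ha1 hne hquad
  have hba : b - a ≠ 0 := sub_ne_zero.2 (Ne.symm hne)
  let U : Submodule ℂ V := Module.End.eigenspace (σ v) a
  have hmem : ∀ {w}, w ∈ U ↔ σ v w = a • w := Module.End.mem_eigenspace_iff
  let S : Submonoid G :=
    { carrier := {g | ∀ w ∈ U, σ g w ∈ U}
      one_mem' := fun w hw => by rw [map_one]; exact hw
      mul_mem' := fun {x y} hx hy w hw => by
        rw [map_mul, Module.End.mul_apply]; exact hx _ (hy _ hw) }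
  let H : Subgroup G :=
    { S with
      inv_mem' := fun {x} hx => by
        have h : x⁻¹ = x ^ (orderOf x - 1) := by
          rw [inv_eq_iff_mul_eq_one, ← pow_succ', Nat.sub_add_cancel (orderOf_pos x), pow_orderOf_eq_one]
        rw [h]
        exact S.pow_mem hx _ }
  have hle : Subgroup.normalClosure ({v} : Set G) ≤ H := by
    rw [Subgroup.normalClosure, Subgroup.closure_le]
    intro y hy w hw
    obtain ⟨v', hv', hc⟩ := Group.mem_conjugatesOfSet_iff.1 hy
    rw [Set.mem_singleton_iff] at hv'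
    subst hv'
    obtain ⟨g, rfl⟩ := isConj_iff.1 hc
    exact hmem.2 (CharDeep.BlichfeldtSixty.conj_mem_eigenspace σ hU ha1 (norm_nonneg _) hlt hnear g w (hmem.1 hw))
  rcases CharDeep.IrrTools.eq_bot_or_top_of_invariant
      (σ.comp (Subgroup.normalClosure ({v} : Set G)).subtype) U fun g w hw => hle g.2 w hw with h | h
  · have hall : ∀ i, μ i = b := fun i => (hpair i).resolve_left fun hi =>
      B.ne_zero i ((Submodule.mem_bot ℂ).1 (h ▸ hmem.2 (by rw [hev, hi]) : B i ∈ (⊥ : Submodule ℂ V)))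
    have h0 := hpow 0
    have h1 := hpow 1
    simp only [hall, pow_zero, pow_one, Finset.sum_const, nsmul_eq_mul, mul_one] at h0 h1
    have : (m : ℂ) * (b - a) = 0 := by linear_combination h1 - h0 * b
    exact (mul_ne_zero (by exact_mod_cast hm.ne') hba) this
  · have hall : ∀ i, μ i = a := fun i => by
      have h2 : σ v (B i) = a • B i := hmem.1 (h ▸ Submodule.mem_top)
      rw [hev] at h2
      exact smul_left_injective ℂ (B.ne_zero i) h2
    have h0 := hpow 0
    have h1 := hpow 1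
    simp only [hall, pow_zero, pow_one, Finset.sum_const, nsmul_eq_mul, mul_one] at h0 h1
    have : (n : ℂ) * (b - a) = 0 := by linear_combination h0 * a - h1
    exact (mul_ne_zero (by exact_mod_cast hn.ne') hba) this

end

/-- No element with two close eigenvalues has an irreducible normal closure. -/
theorem false_of_close (χ : IrrCharacter G) (v : G)
    (hirr : IsIrrCharacter (Subgroup.normalClosure ({v} : Set G))
      fun x : Subgroup.normalClosure ({v} : Set G) => (χ : G → ℂ) x)
    {a b : ℂ} (ha : a ^ orderOf v = 1) (hb : b ^ orderOf v = 1) (hlt : ‖b - a‖ < 1) (hne : a ≠ b)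
    {m n : ℕ} (hm : 0 < m) (hn : 0 < n)
    (hval : ∀ k : ℕ, (χ : G → ℂ) (v ^ k) = m * a ^ k + n * b ^ k) : False := by
  obtain ⟨d, ρ, hρirr, hρ⟩ := χ.2
  obtain ⟨W, σ, e, hU, hσ⟩ := Cfsg.Agent.S4484.exists_unitary_equiv ρ
  have hσc : σ.character = (χ : G → ℂ) := funext fun g => by
    rw [← hρ]
    simp only [Representation.character, hσ]
    exact LinearMap.trace_conj' _ _
  obtain ⟨k, τ, hτi, hτ⟩ := hirr
  obtain ⟨E⟩ := CfsgLib.Char.nonempty_equiv_of_char_eq τ
    (σ.comp (Subgroup.normalClosure ({v} : Set G)).subtype)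
    (hτ.trans (funext fun x => (congrFun hσc (x : G)).symm))
  haveI := hτi
  haveI := isIrreducible_of_equiv E
  exact false_of_close_aux (V := W) σ hU v ha hb hlt hne hm hn fun k => by rw [hσc, hval]

/-- No element with two eigenvalues in a ratio of order at least seven has irreducible normal
closures of its generating powers. -/
theorem false_of_ratio (χ : IrrCharacter G) (v : G) {N : ℕ} (hN : 7 ≤ N)
    (hirr : ∀ t : ℕ, t.Coprime N → IsIrrCharacter (Subgroup.normalClosure ({v ^ t} : Set G))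
      fun x : Subgroup.normalClosure ({v ^ t} : Set G) => (χ : G → ℂ) x)
    {a b : ℂ} (ha : a ^ orderOf v = 1) (hb : b ^ orderOf v = 1) (hr : IsPrimitiveRoot (b / a) N)
    {m n : ℕ} (hm : 0 < m) (hn : 0 < n)
    (hval : ∀ k : ℕ, (χ : G → ℂ) (v ^ k) = m * a ^ k + n * b ^ k) : False := by
  haveI : NeZero N := ⟨by omega⟩
  have hexp := Complex.isPrimitiveRoot_exp N (by omega)
  obtain ⟨t, ht, htN, hte⟩ := (IsPrimitiveRoot.isPrimitiveRoot_iff (k := N) hr).1 hexp
  have ha0 : a ≠ 0 := fun h => by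
    rw [h, zero_pow (orderOf_pos v).ne'] at ha; exact zero_ne_one ha
  have hbt : b ^ t = a ^ t * Complex.exp (2 * Real.pi * Complex.I / N) := by
    rw [← hte, div_pow, mul_div_cancel₀ _ (pow_ne_zero _ ha0)]
  have hroot : ∀ z : ℂ, z ^ orderOf v = 1 → (z ^ t) ^ orderOf (v ^ t) = 1 := by
    intro z hz
    obtain ⟨c, hc⟩ : orderOf v ∣ t * orderOf (v ^ t) :=
      orderOf_dvd_of_pow_eq_one (by rw [pow_mul, pow_orderOf_eq_one])
    rw [← pow_mul, hc, pow_mul, hz, one_pow]
  refine false_of_close χ (v ^ t) (hirr t htN) (hroot a ha) (hroot b hb) ?_ ?_ hm hn fun k => ?_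
  · rw [hbt, show a ^ t * Complex.exp (2 * Real.pi * Complex.I / N) - a ^ t
      = a ^ t * (Complex.exp (2 * Real.pi * Complex.I / N) - 1) by ring, norm_mul, norm_pow,
      norm_eq_one_of_pow_orderOf ha, one_pow, one_mul]
    simpa using CharDeep.BlichfeldtSixty.norm_root_sub_one_lt (p := N) (by omega) rfl (s := 1)
      (by norm_num; omega)
  · rw [hbt]
    intro h
    exact hexp.ne_one (by omega) (mul_left_cancel₀ (pow_ne_zero _ ha0) (by rw [mul_one]; exact h.symm))
  · rw [← pow_mul, hval, ← pow_mul, ← pow_mul]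

end CfsgLib.Char.SmallLinear.TwoEigen
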